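import Groth.Agent.QRepLib.Orth
import Groth.Agent.QFormLib.Gen
import Groth.Agent.QFormLib.EvenLocal
import Mathlib.AlgebraicGeometry.Fiber
import Mathlib.RingTheory.LocalRing.ResidueField.Fiber
import Mathlib.FieldTheory.IsAlgClosed.AlgebraicClosure
import Mathlib.RingTheory.Jacobson.Ring

/-! Connectedness of the fibres of the special orthogonal groups. -/

namespace Groth.Agent.QRepLib

open CategoryTheory AlgebraicGeometry
open scoped TensorProduct
open Groth.Agent.QFormLib

universe u

theorem connectedSpace_of_idempotent {F : Type u} [CommRing F] [Nontrivial F]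
    (h : ∀ e : F, IsIdempotentElem e → e = 0 ∨ e = 1) : ConnectedSpace (PrimeSpectrum F) := by
  refine connectedSpace_iff_clopen.mpr ⟨inferInstance, fun s hs => ?_⟩
  obtain ⟨e, he, rfl⟩ := PrimeSpectrum.isClopen_iff.mp hs
  rcases h e he with rfl | rfl <;> simp

theorem connectedSpace_of_points {k : Type u} [Field k] {F : Type u} [CommRing F] [Algebra k F] [Algebra.FiniteType k F]
    (φ₀ : F →ₐ[k] AlgebraicClosure k)
    (h : ∀ (φ : F →ₐ[k] AlgebraicClosure k) (η : F), IsIdempotentElem η → φ η = φ₀ η) :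
    ConnectedSpace (PrimeSpectrum F) := by
  haveI : Nontrivial F := φ₀.toRingHom.domain_nontrivial
  refine connectedSpace_of_idempotent fun ε hε => ?_
  have hzero : ∀ η : F, IsIdempotentElem η → φ₀ η = 0 → η = 0 := fun η hη h0 => by
    have hu : IsUnit (1 - η) := by
      by_contra hne
      obtain ⟨q, hq, hmem⟩ := exists_max_ideal_of_mem_nonunits hne
      letI : Field (F ⧸ q) := Ideal.Quotient.field q
      haveI : Algebra.FiniteType k (F ⧸ q) :=
        Algebra.FiniteType.of_surjective (Ideal.Quotient.mkₐ k q) Ideal.Quotient.mk_surjective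
      haveI : Module.Finite k (F ⧸ q) := finite_of_finite_type_of_isJacobsonRing _ _
      let j : F ⧸ q →ₐ[k] AlgebraicClosure k := IsAlgClosed.lift
      have hm : η ∈ q := by
        have h1 := h (j.comp (Ideal.Quotient.mkₐ k q)) η hη
        rw [h0] at h1
        exact Ideal.Quotient.eq_zero_iff_mem.mp (j.toRingHom.injective (h1.trans (map_zero _).symm))
      exact hq.ne_top ((Ideal.eq_top_iff_one _).mpr (by simpa using q.add_mem hmem hm))
    exact hu.mul_left_eq_zero.mp (by rw [mul_sub, mul_one, hη.eq, sub_self])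
  rcases IsIdempotentElem.iff_eq_zero_or_one.mp (hε.map φ₀) with h1 | h1
  · exact Or.inl (hzero ε hε h1)
  · exact Or.inr (sub_eq_zero.mp (hzero (1 - ε) hε.one_sub (by rw [map_sub, map_one, h1, sub_self]))).symm

variable {R : Type u} [CommRing R] {n : ℕ} {S : ∀ (A : Type u) [CommRing A] [Algebra R A],
    Subgroup ((A ⊗[R] (Fin n → R)) ≃ₗ[A] (A ⊗[R] (Fin n → R)))} {κ : Type} (c : Cut S κ)

theorem mat_mul' {A : Type u} [CommRing A] [Algebra R A] (f g : (A ⊗[R] (Fin n → R)) ≃ₗ[A] (A ⊗[R] (Fin n → R))) :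
    mat (f * g).toLinearMap = mat f.toLinearMap * mat g.toLinearMap := (mat_mul _ _).symm

theorem mat_one {A : Type u} [CommRing A] [Algebra R A] :
    mat (1 : (A ⊗[R] (Fin n → R)) ≃ₗ[A] (A ⊗[R] (Fin n → R))).toLinearMap = 1 := mat_id

/-- The image of a point. -/
noncomputable def Cut.mapPt {A B : Type u} [CommRing A] [Algebra R A] [CommRing B] [Algebra R B] (φ : A →ₐ[R] B)
    (g : ↥(S A)) : ↥(S B) :=
  c.ev B (φ.comp ((c.ev A).symm g))

theorem Cut.mat_mapPt {A B : Type u} [CommRing A] [Algebra R A] [CommRing B] [Algebra R B] (φ : A →ₐ[R] B)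
    (g : ↥(S A)) : mat (c.mapPt φ g).1.toLinearMap = (mat g.1.toLinearMap).map φ := by
  rw [Cut.mapPt, c.mat_ev_comp, Equiv.apply_symm_apply]

variable (S) in
/-- The end of a path from the identity, over a domain. -/
def IsPathPt (K : Type u) [Field K] [Algebra R K] (g : (K ⊗[R] (Fin n → R)) ≃ₗ[K] (K ⊗[R] (Fin n → R))) : Prop :=
  ∃ (P : Type u) (_ : CommRing P) (_ : IsDomain P) (_ : Algebra R P) (_ : Algebra K P) (_ : IsScalarTower R K P)
    (G : (P ⊗[R] (Fin n → R)) ≃ₗ[P] (P ⊗[R] (Fin n → R))) (π₀ π₁ : P →ₐ[K] K),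
    G ∈ S P ∧ (mat G.toLinearMap).map π₀ = 1 ∧ (mat G.toLinearMap).map π₁ = mat g.toLinearMap

include c in
theorem IsPathPt.mem {K : Type u} [Field K] [Algebra R K] {g : (K ⊗[R] (Fin n → R)) ≃ₗ[K] (K ⊗[R] (Fin n → R))}
    (h : IsPathPt S K g) : g ∈ S K := by
  obtain ⟨P, _, _, _, _, _, G, π₀, π₁, hG, -, h1⟩ := h
  refine (c.spec K g).mpr fun i => ?_
  rw [← h1, show ((mat G.toLinearMap).map π₁) = (mat G.toLinearMap).map (π₁.restrictScalars R) from rfl,
    ← c.nat P K (π₁.restrictScalars R), (c.spec P G).mp hG i, map_zero]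

variable (S) in
/-- All points over algebraically closed fields are products of ends of paths. -/
def PathGenerated : Prop :=
  ∀ (K : Type u) [Field K] [IsAlgClosed K] [Algebra R K], S K ≤ Subgroup.closure {g | IsPathPt S K g}

section Idem

variable {k : Type u} [Field k] [Algebra R k]

/-- The value of an element of the fibre at a point. -/
noncomputable def Cut.val (ε : k ⊗[R] Pres c.eqs) (P : Type u) [CommRing P] [Algebra R P] [Algebra k P]
    [IsScalarTower R k P] (g : ↥(S P)) : P :=
  Algebra.TensorProduct.lift (Algebra.ofId k P) ((c.ev P).symm g) (fun _ _ => Commute.all _ _) ε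

theorem Cut.map_val (ε : k ⊗[R] Pres c.eqs) {P P' : Type u} [CommRing P] [Algebra R P] [Algebra k P]
    [IsScalarTower R k P] [CommRing P'] [Algebra R P'] [Algebra k P'] [IsScalarTower R k P'] (π : P →ₐ[k] P')
    (g : ↥(S P)) (g' : ↥(S P')) (h : (mat g.1.toLinearMap).map π = mat g'.1.toLinearMap) :
    π (c.val ε P g) = c.val ε P' g' := by
  have hg : c.mapPt (π.restrictScalars R) g = g' := eq_of_mat ((c.mat_mapPt _ g).trans h)
  have hψ : (c.ev P').symm g' = (π.restrictScalars R).comp ((c.ev P).symm g) := by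
    rw [← hg, Cut.mapPt, Equiv.symm_apply_apply]
  unfold Cut.val
  rw [← AlgHom.comp_apply]
  refine AlgHom.congr_fun (Algebra.TensorProduct.ext' fun a x => ?_) ε
  rw [AlgHom.comp_apply, Algebra.TensorProduct.lift_tmul, Algebra.TensorProduct.lift_tmul, map_mul, hψ]
  simp

theorem Cut.isIdempotentElem_val {ε : k ⊗[R] Pres c.eqs} (hε : IsIdempotentElem ε) (P : Type u) [CommRing P]
    [Algebra R P] [Algebra k P] [IsScalarTower R k P] (g : ↥(S P)) : IsIdempotentElem (c.val ε P g) :=
  hε.map _

include c in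
theorem Cut.val_eq_val_one {ε : k ⊗[R] Pres c.eqs} (hε : IsIdempotentElem ε) {K : Type u} [Field K] [IsAlgClosed K]
    [Algebra R K] [Algebra k K] [IsScalarTower R k K] (hgen : PathGenerated S) (g : ↥(S K)) :
    c.val ε K g = c.val ε K 1 := by
  have key : ∀ h ∈ Subgroup.closure {g | IsPathPt S K g}, h ∈ S K ∧
      ∀ (hh : h ∈ S K) (x : ↥(S K)), c.val ε K (⟨h, hh⟩ * x) = c.val ε K x := by
    intro h hh
    induction hh using Subgroup.closure_induction with
    | mem h hpath =>
      refine ⟨IsPathPt.mem c hpath, fun hh x => ?_⟩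
      obtain ⟨P, _, _, _, _, _, G, π₀, π₁, hG, h0, h1⟩ := hpath
      letI : Algebra k P := ((algebraMap K P).comp (algebraMap k K)).toAlgebra
      haveI : IsScalarTower k K P := IsScalarTower.of_algebraMap_eq' rfl
      haveI : IsScalarTower R k P := IsScalarTower.of_algebraMap_eq fun r => by
        rw [IsScalarTower.algebraMap_apply R K P, IsScalarTower.algebraMap_apply R k K]; rfl
      obtain ⟨xP, hxP⟩ : ∃ xP : ↥(S P), xP = c.mapPt (IsScalarTower.toAlgHom R K P) x := ⟨_, rfl⟩
      have hev : ∀ π : P →ₐ[K] K, (mat ((⟨G, hG⟩ : ↥(S P)) * xP).1.toLinearMap).map (π.restrictScalars k) =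
          (mat G.toLinearMap).map π * mat x.1.toLinearMap := fun π => by
        rw [Subgroup.coe_mul, mat_mul', hxP, c.mat_mapPt, AlgHom.coe_restrictScalars', Matrix.map_mul, Matrix.map_map]
        congr 1
        ext i j
        exact π.commutes _
      have e0 : (π₀.restrictScalars k) (c.val ε P (⟨G, hG⟩ * xP)) = c.val ε K x :=
        c.map_val ε _ _ _ (by rw [hev, h0, Matrix.one_mul])
      have e1 : (π₁.restrictScalars k) (c.val ε P (⟨G, hG⟩ * xP)) = c.val ε K (⟨h, hh⟩ * x) :=
        c.map_val ε _ _ _ (by rw [hev, h1, Subgroup.coe_mul, mat_mul'])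
      rcases IsIdempotentElem.iff_eq_zero_or_one.mp (c.isIdempotentElem_val hε P (⟨G, hG⟩ * xP)) with h2 | h2 <;>
        rw [h2] at e0 e1 <;> simp only [map_zero, map_one] at e0 e1 <;> rw [← e0, ← e1]
    | one => exact ⟨Subgroup.one_mem _, fun hh x => by rw [show (⟨1, hh⟩ : ↥(S K)) = 1 from rfl, one_mul]⟩
    | mul a b _ _ ha hb =>
      refine ⟨(S K).mul_mem ha.1 hb.1, fun hh x => ?_⟩
      rw [show (⟨a * b, hh⟩ : ↥(S K)) = ⟨a, ha.1⟩ * ⟨b, hb.1⟩ from rfl, mul_assoc, ha.2, hb.2]
    | inv a _ ha =>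
      refine ⟨(S K).inv_mem ha.1, fun hh x => ?_⟩
      conv_rhs => rw [← mul_inv_cancel_left (⟨a, ha.1⟩ : ↥(S K)) x]
      rw [ha.2]
      rfl
  have := (key g.1 (hgen K g.2)).2 g.2 1
  rwa [mul_one] at this

variable [Finite κ]

include c in
theorem Cut.connected_fibre (hgen : PathGenerated S) : ConnectedSpace (PrimeSpectrum (k ⊗[R] Pres c.eqs)) := by
  haveI := pres_finitePresentation c.eqs
  let φ₀ : k ⊗[R] Pres c.eqs →ₐ[k] AlgebraicClosure k :=
    Algebra.TensorProduct.lift (Algebra.ofId k _) ((c.ev (AlgebraicClosure k)).symm 1) (fun _ _ => Commute.all _ _)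
  refine connectedSpace_of_points (k := k) (F := k ⊗[R] Pres c.eqs) φ₀ fun φ η hη => ?_
  have hφ : φ η = c.val η (AlgebraicClosure k)
      (c.ev (AlgebraicClosure k) ((φ.restrictScalars R).comp Algebra.TensorProduct.includeRight)) := by
    unfold Cut.val
    refine AlgHom.congr_fun (Algebra.TensorProduct.ext' fun a x => ?_) η
    rw [Algebra.TensorProduct.lift_tmul, Equiv.symm_apply_apply,
      show a ⊗ₜ[R] x = algebraMap k (k ⊗[R] Pres c.eqs) a * (1 ⊗ₜ[R] x) by
        rw [Algebra.TensorProduct.algebraMap_apply, Algebra.TensorProduct.tmul_mul_tmul, one_mul, mul_one]; rfl, map_mul, AlgHom.commutes]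
    rfl
  rw [hφ, c.val_eq_val_one hη hgen]
  rfl

end Idem

variable {G : Over (Spec (CommRingCat.of R))} [GrpObj G]

include c in
theorem Cut.connectedSpace_fiber [Finite κ] (D : QuadGrp.LinRep R (Fin n → R) S G) (hgen : PathGenerated S)
    (s : ↥(Spec (CommRingCat.of R))) : ConnectedSpace ↥(G.hom.fiber s) := by
  obtain ⟨u, hu⟩ := c.bijPts D
  haveI := hu.isIso_leftHom
  let p : PrimeSpectrum R := s
  haveI hF : ConnectedSpace (PrimeSpectrum (p.asIdeal.Fiber (Pres c.eqs))) :=
    c.connected_fibre (k := p.asIdeal.ResidueField) hgen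
  let h := Scheme.homeoOfIso (asIso (leftHom u))
  have hh : ∀ x : PrimeSpectrum (Pres c.eqs),
      x ∈ PrimeSpectrum.comap (algebraMap R (Pres c.eqs)) ⁻¹' {p} ↔ h x ∈ G.hom ⁻¹' {s} := fun x => by
    rw [Set.mem_preimage, Set.mem_preimage, Set.mem_singleton_iff, Set.mem_singleton_iff]
    have e : G.hom (h x) = PrimeSpectrum.comap (algebraMap R (Pres c.eqs)) x := by
      show (leftHom u ≫ G.hom) x = _
      rw [leftHom_hom]
      rfl
    rw [e]
    rfl
  let e := ((PrimeSpectrum.preimageHomeomorphFiber R (Pres c.eqs) p).symm.trans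
    (h.subtype hh)).trans (G.hom.fiberHomeo s).symm
  exact e.connectedSpace_iff.mp hF

section Elem

variable (Q : QuadraticForm R (Fin n → R))

theorem svec_svec {A B : Type u} [CommRing A] [Algebra R A] [CommRing B] [Algebra R B] (ι₀ : B →ₐ[R] A) (π : A →ₐ[R] B)
    (hπ : ∀ b, π (ι₀ b) = b) (v : B ⊗[R] (Fin n → R)) :
    svec π.toRingHom (bas R n A) (fun i => bas R n B i) (svec ι₀.toRingHom (bas R n B) (fun i => bas R n A i) v) = v := by
  rw [show svec ι₀.toRingHom (bas R n B) (fun i => bas R n A i) v =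
    ∑ i, ι₀ ((bas R n B).repr v i) • bas R n A i from rfl]
  simp only [map_sum, LinearMap.map_smulₛₗ, svec_basis]
  conv_rhs => rw [← (bas R n B).sum_repr v]
  exact Finset.sum_congr rfl fun i _ => congrArg (· • _) (hπ _)

theorem over_of_map_one {A B : Type u} [CommRing A] [Algebra R A] [CommRing B] [Algebra R B] (π : A →ₐ[R] B)
    (g : (A ⊗[R] (Fin n → R)) ≃ₗ[A] (A ⊗[R] (Fin n → R))) (h : (mat g.toLinearMap).map π = 1) :
    Over' π.toRingHom (bas R n A) (bas R n B) g.toLinearMap
      (1 : (B ⊗[R] (Fin n → R)) ≃ₗ[B] _).toLinearMap := by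
  refine over'_of_basis _ _ _ (bas R n A) _ _ fun i => ?_
  rw [svec_basis, ← col_mat g.toLinearMap i, svec_col, h]
  simp [col, Matrix.one_apply]

theorem over_eichlerMap {A B : Type u} [CommRing A] [Algebra R A] [CommRing B] [Algebra R B] (π : A →ₐ[R] B)
    (v y : A ⊗[R] (Fin n → R)) :
    Over' π.toRingHom (bas R n A) (bas R n B) (eichlerMap (QA Q A) v y)
      (eichlerMap (QA Q B) (svec π.toRingHom (bas R n A) (fun i => bas R n B i) v)
        (svec π.toRingHom (bas R n A) (fun i => bas R n B i) y)) := fun z => by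
  simp only [eichlerMap_apply, map_sub, map_add, LinearMap.map_smulₛₗ, (compat_bas Q π).polar_svec,
    (compat_bas Q π).map_form, map_mul]

theorem over_torusMap {A B : Type u} [CommRing A] [Algebra R A] [CommRing B] [Algebra R B] (π : A →ₐ[R] B)
    (v w : A ⊗[R] (Fin n → R)) (L : Aˣ) (l : Bˣ) (hl : π (L : A) = l) :
    Over' π.toRingHom (bas R n A) (bas R n B) (torusMap (QA Q A) v w L)
      (torusMap (QA Q B) (svec π.toRingHom (bas R n A) (fun i => bas R n B i) v)
        (svec π.toRingHom (bas R n A) (fun i => bas R n B i) w) l) := fun z => by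
  have hl' : π.toRingHom (↑L⁻¹ : A) = (↑l⁻¹ : B) := by
    have := congrArg Units.inv (show Units.map (π : A →* B) L = l from Units.ext hl)
    exact this
  simp only [torusMap_apply, map_add, LinearMap.map_smulₛₗ, (compat_bas Q π).polar_svec, map_mul, map_sub, map_one, hl',
    show π.toRingHom (L : A) = (l : B) from hl]

variable {Q} in
theorem isPathPt_of_isElem {K : Type u} [Field K] [Algebra R K]
    (hS : ∀ (P : Type u) [CommRing P] [IsDomain P] [Algebra R P] [Algebra K P] [IsScalarTower R K P] (π : P →ₐ[R] K)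
      (G : (P ⊗[R] (Fin n → R)) ≃ₗ[P] (P ⊗[R] (Fin n → R))),
      G ∈ QuadGrp.O (QA Q P) → (mat G.toLinearMap).map π = 1 → G ∈ S P)
    {g : (K ⊗[R] (Fin n → R)) ≃ₗ[K] (K ⊗[R] (Fin n → R))} (hg : IsElem (QA Q K) ⊤ g) : IsPathPt S K g := by
  rcases hg with ⟨v, y, -, -, hv, hy, hgz⟩ | ⟨v, w, l, -, -, hv, hw, hvw, hgz⟩
  · let P := Polynomial K
    let ι₀ : K →ₐ[R] P := IsScalarTower.toAlgHom R K P
    let j := svec ι₀.toRingHom (bas R n K) (fun i => bas R n P i)
    have hv' : QA Q P (j v) = 0 := by rw [(compat_bas Q ι₀).map_form, hv, map_zero]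
    have hy' : QuadraticMap.polar (QA Q P) (j v) ((Polynomial.X : P) • j y) = 0 := by
      rw [QuadraticMap.polar_smul_right, (compat_bas Q ι₀).polar_svec, hy, map_zero, smul_zero]
    let ev : K → (P →ₐ[K] K) := fun t => Polynomial.aeval t
    have hov : ∀ t, (mat (eichler (QA Q P) hv' hy').toLinearMap).map ((ev t).restrictScalars R) =
        mat (eichlerMap (QA Q K) v (t • y)) := fun t => by
      have hs := svec_svec (R := R) (n := n) ι₀ ((ev t).restrictScalars R) (fun b => (ev t).commutes b)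
      refine mat_map_of_over ?_
      have h1 := over_eichlerMap Q ((ev t).restrictScalars R) (j v) ((Polynomial.X : P) • j y)
      rw [LinearMap.map_smulₛₗ, show svec ((ev t).restrictScalars R).toRingHom (bas R n P) (fun i => bas R n K i) (j v) = v
        from hs v, show svec ((ev t).restrictScalars R).toRingHom (bas R n P) (fun i => bas R n K i) (j y) = y from hs y,
        show ((ev t).restrictScalars R).toRingHom (Polynomial.X : P) = t from Polynomial.aeval_X t] at h1
      exact h1
    have h0 : (mat (eichler (QA Q P) hv' hy').toLinearMap).map ((ev 0).restrictScalars R) = 1 := by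
      rw [hov, zero_smul, show eichlerMap (QA Q K) v 0 = LinearMap.id from LinearMap.ext (eichlerMap_zero _ v), mat_id]
    refine ⟨P, inferInstance, inferInstance, inferInstance, inferInstance, inferInstance,
      eichler (QA Q P) hv' hy', ev 0, ev 1, hS P _ _ (eichler_mem_O _ hv' hy') h0, h0, ?_⟩
    show (mat (eichler (QA Q P) hv' hy').toLinearMap).map ((ev 1).restrictScalars R) = _
    rw [hov, one_smul]
    exact congrArg mat (LinearMap.ext fun z => (hgz z).symm)
  · let P := Localization.Away (Polynomial.X : Polynomial K)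
    haveI : IsDomain P := IsLocalization.isDomain_localization (powers_le_nonZeroDivisors_of_noZeroDivisors Polynomial.X_ne_zero)
    let ι₀ : K →ₐ[R] P := IsScalarTower.toAlgHom R K P
    let j := svec ι₀.toRingHom (bas R n K) (fun i => bas R n P i)
    let T : Pˣ := (IsLocalization.Away.algebraMap_isUnit (S := P) (Polynomial.X : Polynomial K)).unit
    have hv' : QA Q P (j v) = 0 := by rw [(compat_bas Q ι₀).map_form, hv, map_zero]
    have hw' : QA Q P (j w) = 0 := by rw [(compat_bas Q ι₀).map_form, hw, map_zero]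
    have hvw' : QuadraticMap.polar (QA Q P) (j v) (j w) = 1 := by
      rw [(compat_bas Q ι₀).polar_svec, hvw, map_one]
    have hu : ∀ (t : Kˣ) (z : Submonoid.powers (Polynomial.X : Polynomial K)),
        IsUnit (Polynomial.aeval (R := K) (t : K) (z : Polynomial K)) := fun t z => by
      obtain ⟨_, k, rfl⟩ := z
      rw [map_pow, Polynomial.aeval_X]
      exact t.isUnit.pow k
    let ev : Kˣ → (P →ₐ[K] K) := fun t => IsLocalization.liftAlgHom (f := Polynomial.aeval (R := K) (t : K)) (hu t)
    have hT : ∀ t, ev t (T : P) = t := fun t => (IsLocalization.lift_eq (hu t) _).trans (Polynomial.aeval_X _)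
    have hov : ∀ t, (mat (torus (QA Q P) hv' hw' hvw' T).toLinearMap).map ((ev t).restrictScalars R) =
        mat (torusMap (QA Q K) v w t) := fun t => by
      have hs := svec_svec (R := R) (n := n) ι₀ ((ev t).restrictScalars R) (fun b => (ev t).commutes b)
      refine mat_map_of_over ?_
      have h1 := over_torusMap Q ((ev t).restrictScalars R) (j v) (j w) T t (hT t)
      rw [show svec ((ev t).restrictScalars R).toRingHom (bas R n P) (fun i => bas R n K i) (j v) = v
        from hs v, show svec ((ev t).restrictScalars R).toRingHom (bas R n P) (fun i => bas R n K i) (j w) = w from hs w] at h1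
      exact h1
    have h0 : (mat (torus (QA Q P) hv' hw' hvw' T).toLinearMap).map ((ev 1).restrictScalars R) = 1 := by
      rw [hov, show torusMap (QA Q K) v w 1 = LinearMap.id from LinearMap.ext (torusMap_one _ v w), mat_id]
    refine ⟨P, inferInstance, inferInstance, inferInstance, inferInstance, inferInstance,
      torus (QA Q P) hv' hw' hvw' T, ev 1, ev l, hS P _ _ (torus_mem_O _ hv' hw' hvw' T) h0, h0, ?_⟩
    show (mat (torus (QA Q P) hv' hw' hvw' T).toLinearMap).map ((ev l).restrictScalars R) = _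
    rw [hov]
    exact congrArg mat (LinearMap.ext fun z => (hgz z).symm)

theorem pathGenerated_SOeven {m : ℕ} (hn : n = 2 * m) (hm : 0 < m) (hQ : QuadGrp.IsRegular Q) :
    PathGenerated (fun A _ _ => QuadGrp.sorth Q A) := by
  intro K _ _ _
  have e : ∀ (A : Type u) [CommRing A] [Algebra R A] [Nontrivial A],
      QuadGrp.sorth Q A = QuadGrp.SOeven (QA Q A) := fun A _ _ _ => by
    rw [QuadGrp.sorth, QuadGrp.SO, finrank_bas, if_pos (hn ▸ even_two_mul m)]
  have hK := isRegular_QA Q hQ K
  have hpath : ∀ g, IsElem (QA Q K) ⊤ g → IsPathPt (fun A _ _ => QuadGrp.sorth Q A) K g := fun g hg => by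
    refine isPathPt_of_isElem (Q := Q) (fun P _ _ _ _ _ π G hG h => ?_) hg
    show G ∈ QuadGrp.sorth Q P
    rw [e P]
    exact mem_SOeven_of_over π.toRingHom (bas R n P) (bas R n K) (QA Q P) (QA Q K) (compat_bas Q π) hn hm
      (isRegular_QA Q hQ P) (fun x hx => IsIdempotentElem.iff_eq_zero_or_one.mp hx) hG (over_of_map_one π G h)
      (Subgroup.one_mem _)
  refine le_trans (le_elemGroup (QA Q K) _ ?_ (fun g hg => (hpath g hg).mem (cutSOeven Q hn hm hQ))
    (fun g hg => ?_) (fun x hx hall => absurd (hK.1 (LinearMap.ext fun y => by simpa using hall y)) hx)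
    (fun u hu h hh hhz => ?_)) (Subgroup.closure_mono hpath)
  · show QuadGrp.sorth Q K ≤ _
    rw [e K]; exact fun g hg => hg.1
  · change g ∈ QuadGrp.sorth Q K at hg
    rw [e K] at hg
    obtain ⟨x, hx, hδ, hz⟩ := exists_dickson (bas R n K) (QA Q K) hn hK hm g hg.1
    have := (isDicksonTrivial_iff (bas R n K) (QA Q K) hn hK hm g hg.1 hδ hz).mp hg.2
    rw [hδ, this, mul_zero, sub_zero]
  · change h ∈ QuadGrp.sorth Q K at hh
    rw [e K] at hh
    exact absurd hh (reflection_notMem_SOeven (bas R n K) (QA Q K) hn hK u (-1) (by rw [hu]; rfl) h hh.1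
      fun z => by rw [hhz z]; simp)

theorem pathGenerated_SOodd {m : ℕ} (hn : n = 2 * m + 1)
    (hQ : IsUnit (QuadGrp.halfDisc (Pi.basisFun R (Fin n)) (LinearEquiv.refl R R) Q)) :
    PathGenerated (fun A _ _ => QuadGrp.sorth Q A) := by
  intro K _ _ _
  subst hn
  have hodd : Odd (2 * m + 1) := ⟨m, rfl⟩
  have hmem : ∀ (A : Type u) [CommRing A] [Algebra R A] (g : (A ⊗[R] (Fin (2 * m + 1) → R)) ≃ₗ[A] _),
      g ∈ QuadGrp.sorth Q A ↔ g ∈ QuadGrp.O (QA Q A) ∧ (mat g.toLinearMap).det = 1 := fun A _ _ g => by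
    rw [sorth_odd_eq Q hodd A, mem_sorth'_iff, mem_SO'_iff]
  obtain ⟨b, horth, ha, hP'⟩ := exists_split_basis (QA Q K) (bas R _ K) (isUnit_halfDisc_QA Q hQ K)
  have hpath : ∀ g, IsElem (QA Q K) ⊤ g → IsPathPt (fun A _ _ => QuadGrp.sorth Q A) K g := fun g hg => by
    refine isPathPt_of_isElem (Q := Q) (fun P _ _ _ _ _ π G hG h => (hmem P G).mpr ⟨hG, ?_⟩) hg
    have hsq := det_sq_of_mem_orth Q rfl hQ ((mem_orth_iff Q G).mpr hG)
    have h1 : π (mat G.toLinearMap).det = 1 := by
      rw [AlgHom.map_det, AlgHom.mapMatrix_apply, h, Matrix.det_one]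
    rcases mul_self_eq_one_iff.mp hsq with h2 | h2
    · exact h2
    · rw [h2, map_neg, map_one] at h1
      have hK2 : (2 : K) = 0 := by linear_combination -h1
      have h3 : (2 : P) = 0 := by rw [← map_ofNat (algebraMap K P) 2, hK2, map_zero]
      rw [h2]; linear_combination -h3
  refine le_trans (le_elemGroup (QA Q K) _ (fun g hg => ((hmem K g).mp hg).1)
    (fun g hg => (hpath g hg).mem (cutSOodd Q hodd)) (fun g hg => ?_) (fun x hx hall hQx => hx ?_)
    (fun u hu h hh hhz => ?_)) (Subgroup.closure_mono hpath)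
  · rw [← LinearMap.det_toMatrix (bas R (2 * m + 1) K)]
    exact ((hmem K g).mp hg).2
  · have hs : ∀ k : Fin (2 * m), b.repr x k.succ = 0 := by
      have hv : Matrix.vecMul (fun k : Fin (2 * m) => b.repr x k.succ) (polMat (fun j : Fin (2 * m) => b j.succ) (QA Q K)) = 0 := by
        funext j
        have h1 : QuadraticMap.polarBilin (QA Q K) x (b j.succ) = 0 := hall _
        conv_lhs at h1 => rw [← b.sum_repr x]
        rw [Fin.sum_univ_succ, map_add, map_sum, LinearMap.add_apply, LinearMap.sum_apply] at h1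
        simpa [Matrix.vecMul, dotProduct, polMat, horth] using h1
      have hv2 := congrArg (fun z => Matrix.vecMul z (polMat (fun j : Fin (2 * m) => b j.succ) (QA Q K))⁻¹) hv
      simp only [Matrix.vecMul_vecMul, Matrix.mul_nonsing_inv _ hP', Matrix.vecMul_one, Matrix.zero_vecMul] at hv2
      exact congrFun hv2
    have hx' : x = b.repr x 0 • b 0 := by
      conv_lhs => rw [← b.sum_repr x]
      rw [Fin.sum_univ_succ, Finset.sum_eq_zero (fun k _ => by rw [hs, zero_smul]), add_zero]
    rw [hx', QuadraticMap.map_smul, smul_eq_mul, mul_eq_zero, or_iff_left ha.ne_zero, mul_self_eq_zero] at hQx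
    rw [hx', hQx, zero_smul]
  · have ht : h.toLinearMap = LinearMap.transvection (QuadraticMap.polarBilin (QA Q K) u) u := LinearMap.ext fun z => by
      rw [LinearEquiv.coe_coe, hhz, LinearMap.transvection.apply]; rfl
    have h1 := ((hmem K h).mp hh).2
    rw [mat, LinearMap.det_toMatrix, ht, LinearMap.transvection.det, QuadraticMap.polarBilin_apply_apply,
      QuadraticMap.polar_self, hu, two_nsmul] at h1
    have h2 : (2 : K) = 0 := by linear_combination -h1
    refine ⟨b 0, b.ne_zero 0, fun x => ?_⟩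
    rw [← b.sum_repr x, ← QuadraticMap.polarBilin_apply_apply, map_sum, LinearMap.sum_apply]
    refine Finset.sum_eq_zero fun i _ => ?_
    rw [map_smul, LinearMap.smul_apply, QuadraticMap.polarBilin_apply_apply]
    refine Fin.cases ?_ (fun k => ?_) i
    · rw [QuadraticMap.polar_self, two_nsmul, ← two_mul, h2, zero_mul, smul_zero]
    · rw [QuadraticMap.polar_comm, horth, smul_zero]

end Elem

end Groth.Agent.QRepLib
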