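import Groth.Prelude.Def_QuadGrp2
import Mathlib.AlgebraicGeometry.Morphisms.Smooth
import Mathlib.AlgebraicGeometry.Morphisms.Affine
import Mathlib.AlgebraicGeometry.Gluing

/-! A scheme with the affine points of an algebra is the spectrum of that algebra. -/

namespace Groth.Agent.QRepLib

open CategoryTheory AlgebraicGeometry Limits

universe u

variable {R : Type u} [CommRing R]

theorem specOverMap_comp {A B C : Type u} [CommRing A] [Algebra R A] [CommRing B] [Algebra R B] [CommRing C]
    [Algebra R C] (φ : A →ₐ[R] B) (ψ : B →ₐ[R] C) :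
    QuadGrp.specOverMap R (ψ.comp φ) = QuadGrp.specOverMap R ψ ≫ QuadGrp.specOverMap R φ := by
  ext
  show Spec.map _ = Spec.map _ ≫ Spec.map _
  rw [← Spec.map_comp, ← CommRingCat.ofHom_comp]
  rfl

theorem specOverMap_id (A : Type u) [CommRing A] [Algebra R A] :
    QuadGrp.specOverMap R (AlgHom.id R A) = 𝟙 (QuadGrp.specOver R A) := by
  ext
  show Spec.map (CommRingCat.ofHom (RingHom.id A)) = _
  simp
  rfl

theorem exists_specOverMap {A B : Type u} [CommRing A] [Algebra R A] [CommRing B] [Algebra R B]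
    (f : QuadGrp.specOver R B ⟶ QuadGrp.specOver R A) : ∃ φ : A →ₐ[R] B, QuadGrp.specOverMap R φ = f := by
  let s : Spec (CommRingCat.of B) ⟶ Spec (CommRingCat.of A) := f.left
  have h : s ≫ Spec.map (CommRingCat.ofHom (algebraMap R A)) = Spec.map (CommRingCat.ofHom (algebraMap R B)) :=
    Over.w f
  have h2 : CommRingCat.ofHom (algebraMap R A) ≫ Spec.preimage s = CommRingCat.ofHom (algebraMap R B) := by
    apply Spec.map_injective
    rw [Spec.map_comp, Spec.map_preimage]
    exact h
  refine ⟨{ (Spec.preimage s).hom with commutes' := fun r => congrArg (fun g => g.hom r) h2 }, ?_⟩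
  ext
  show Spec.map _ = s
  conv_rhs => rw [← Spec.map_preimage s]
  rfl

/-- A morphism from a spectrum to an `R`-scheme makes the ring an algebra, compatibly. -/
theorem exists_chart (W : Over (Spec (CommRingCat.of R))) (A : CommRingCat.{u}) (j : Spec A ⟶ W.left) :
    ∃ (a : Algebra R A) (j' : @QuadGrp.specOver R _ A _ a ⟶ W), j'.left = j := by
  refine ⟨(Spec.preimage (j ≫ W.hom)).hom.toAlgebra,
    @Over.homMk _ _ _ (@QuadGrp.specOver R _ A _ (Spec.preimage (j ≫ W.hom)).hom.toAlgebra) W j ?_, rfl⟩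
  exact (Spec.map_preimage (j ≫ W.hom)).symm

variable (C : Type u) [CommRing C] [Algebra R C] {G : Over (Spec (CommRingCat.of R))}
  (u : QuadGrp.specOver R C ⟶ G)

/-- The hypothesis that `u` is bijective on affine points. -/
def BijPts : Prop :=
  ∀ (A : Type u) [CommRing A] [Algebra R A], Function.Bijective fun φ : C →ₐ[R] A => QuadGrp.specOverMap R φ ≫ u

variable {C u}

theorem BijPts.mono (h : BijPts C u) {W : Over (Spec (CommRingCat.of R))} (s t : W ⟶ QuadGrp.specOver R C)
    (he : s ≫ u = t ≫ u) : s = t := by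
  ext1
  refine Scheme.Cover.hom_ext W.left.affineCover _ _ fun x => ?_
  obtain ⟨a, j, hj⟩ := exists_chart W _ (W.left.affineCover.f x)
  letI := a
  obtain ⟨φ, hφ⟩ := exists_specOverMap (j ≫ s)
  obtain ⟨ψ, hψ⟩ := exists_specOverMap (j ≫ t)
  have : φ = ψ := (h _).1 (by
    show QuadGrp.specOverMap R φ ≫ u = QuadGrp.specOverMap R ψ ≫ u
    rw [hφ, hψ, Category.assoc, Category.assoc, he])
  rw [this, hψ] at hφ
  rw [← hj]
  exact (congrArg CommaMorphism.left hφ).symm

variable (u) in
/-- The underlying morphism of schemes. -/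
noncomputable def leftHom : Spec (CommRingCat.of C) ⟶ G.left := u.left

variable (u) in
theorem leftHom_hom : leftHom u ≫ G.hom = Spec.map (CommRingCat.ofHom (algebraMap R C)) := Over.w u

theorem BijPts.mono' (h : BijPts C u) {W : Scheme.{u}} (s t : W ⟶ Spec (CommRingCat.of C))
    (he : s ≫ leftHom u = t ≫ leftHom u) : s = t := by
  have hπ : t ≫ Spec.map (CommRingCat.ofHom (algebraMap R C)) = s ≫ Spec.map (CommRingCat.ofHom (algebraMap R C)) := by
    rw [← leftHom_hom u, reassoc_of% he]
  let W' : Over (Spec (CommRingCat.of R)) := Over.mk (s ≫ Spec.map (CommRingCat.ofHom (algebraMap R C)))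
  let p : W' ⟶ QuadGrp.specOver R C := Over.homMk s rfl
  let q : W' ⟶ QuadGrp.specOver R C := Over.homMk t hπ
  exact congrArg CommaMorphism.left (h.mono p q (Over.OverMorphism.ext he))

theorem BijPts.isIso_leftHom (h : BijPts C u) : IsIso (leftHom u) := by
  have hc : ∀ x : G.left.affineCover.I₀, ∃ s : G.left.affineCover.X x ⟶ Spec (CommRingCat.of C),
      s ≫ leftHom u = G.left.affineCover.f x := fun x => by
    obtain ⟨a, j, hj⟩ := exists_chart G _ (G.left.affineCover.f x)
    letI := a
    obtain ⟨φ, hφ⟩ := (h _).2 j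
    exact ⟨(QuadGrp.specOverMap R φ).left, (congrArg CommaMorphism.left hφ).trans hj⟩
  choose s hs using hc
  have glue : ∀ x y, pullback.fst (G.left.affineCover.f x) (G.left.affineCover.f y) ≫ s x =
      pullback.snd _ _ ≫ s y := fun x y =>
    h.mono' _ _ (by rw [Category.assoc, Category.assoc, hs, hs, pullback.condition])
  let σ := G.left.affineCover.glueMorphisms s glue
  have hσ : σ ≫ leftHom u = 𝟙 _ := Scheme.Cover.hom_ext G.left.affineCover _ _ fun x => by
    rw [Scheme.Cover.ι_glueMorphisms_assoc, hs, Category.comp_id]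
  exact ⟨σ, h.mono' _ _ (by rw [Category.assoc, hσ, Category.comp_id, Category.id_comp]), hσ⟩

theorem BijPts.isAffineHom (h : BijPts C u) : IsAffineHom G.hom := by
  haveI := h.isIso_leftHom
  have e : G.hom = inv (leftHom u) ≫ Spec.map (CommRingCat.ofHom (algebraMap R C)) := by
    rw [← leftHom_hom u, IsIso.inv_hom_id_assoc]
  rw [e]
  infer_instance

theorem BijPts.smooth_iff (h : BijPts C u) : Smooth G.hom ↔ Algebra.Smooth R C := by
  haveI := h.isIso_leftHom
  haveI : MorphismProperty.RespectsIso @Smooth := by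
    rw [HasRingHomProperty.eq_affineLocally @Smooth]
    exact affineLocally_respectsIso _ RingHom.Smooth.propertyIsLocal.respectsIso
  have e : G.hom = inv (leftHom u) ≫ Spec.map (CommRingCat.ofHom (algebraMap R C)) := by
    rw [← leftHom_hom u, IsIso.inv_hom_id_assoc]
  rw [e, MorphismProperty.cancel_left_of_respectsIso (P := @Smooth), HasRingHomProperty.Spec_iff (P := @Smooth)]
  exact RingHom.smooth_algebraMap

/-- The universal point of a functor represented by `G` and by `C`. -/
theorem bijPts_of_equiv (F : ∀ (A : Type u) [CommRing A] [Algebra R A], Type u)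
    (pts : ∀ (A : Type u) [CommRing A] [Algebra R A], (QuadGrp.specOver R A ⟶ G) ≃ F A)
    (ev : ∀ (A : Type u) [CommRing A] [Algebra R A], (C →ₐ[R] A) ≃ F A)
    (hnat : ∀ (A B : Type u) [CommRing A] [Algebra R A] [CommRing B] [Algebra R B] (φ : A →ₐ[R] B)
      (y : QuadGrp.specOver R A ⟶ G) (ψ : C →ₐ[R] A), pts A y = ev A ψ →
        pts B (QuadGrp.specOverMap R φ ≫ y) = ev B (φ.comp ψ)) :
    BijPts C ((pts C).symm (ev C (AlgHom.id R C))) := by
  intro A _ _
  have key : (fun φ : C →ₐ[R] A => QuadGrp.specOverMap R φ ≫ (pts C).symm (ev C (AlgHom.id R C))) =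
      ((ev A).trans (pts A).symm : (C →ₐ[R] A) → _) := by
    funext φ
    rw [Equiv.trans_apply, Equiv.eq_symm_apply]
    have := hnat C A φ _ (AlgHom.id R C) (Equiv.apply_symm_apply _ _)
    rwa [AlgHom.comp_id] at this
  rw [key]
  exact Equiv.bijective _

end Groth.Agent.QRepLib
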