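import Groth.Agent.QRepLib.Orth
import Groth.Agent.QFormLib.LiftCliff

/-! Clifford group schemes: presentations and smoothness. -/

namespace Groth.Agent.QRepLib

open CategoryTheory AlgebraicGeometry
open scoped TensorProduct
open Groth.Agent.QFormLib

universe u

variable {R : Type u} [CommRing R] {n : ℕ} (Q : QuadraticForm R (Fin n → R))

/-- The Clifford algebra over `A`. -/
noncomputable abbrev CA (A : Type u) [CommRing A] [Algebra R A] : Type u := CliffordAlgebra (QA Q A)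

/-- The map of Clifford algebras along an algebra map. -/
noncomputable def cA {A B : Type u} [CommRing A] [Algebra R A] [CommRing B] [Algebra R B] (φ : A →ₐ[R] B) :
    CA Q A →+* CA Q B :=
  cmap (compat_bas Q φ)

theorem κ_cA {A B : Type u} [CommRing A] [Algebra R A] [CommRing B] [Algebra R B] (φ : A →ₐ[R] B)
    (T : Finset (Fin n)) (x : CA Q A) :
    κ (bas R n B) (QA Q B) T (cA Q φ x) = φ (κ (bas R n A) (QA Q A) T x) :=
  κ_cmap (compat_bas Q φ) T x

theorem cA_ι {A B : Type u} [CommRing A] [Algebra R A] [CommRing B] [Algebra R B] (φ : A →ₐ[R] B)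
    (v : A ⊗[R] (Fin n → R)) :
    cA Q φ (CliffordAlgebra.ι _ v) = CliffordAlgebra.ι _ (LinearMap.rTensor (Fin n → R) φ.toLinearMap v) := by
  rw [cA, cmap_ι]
  congr 1
  refine (bas R n B).repr.injective (Finsupp.ext fun k => ?_)
  rw [repr_svec, bas_repr_rTensor]
  rfl

/-- The element with given coordinates. -/
noncomputable def ofCoord (A : Type u) [CommRing A] [Algebra R A] (x : Finset (Fin n) → A) : CA Q A :=
  ∑ S, x S • prodE (bas R n A) (QA Q A) S

theorem κ_ofCoord (A : Type u) [CommRing A] [Algebra R A] (x : Finset (Fin n) → A) (T : Finset (Fin n)) :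
    κ (bas R n A) (QA Q A) T (ofCoord Q A x) = x T := by
  simp [ofCoord, κ_prodE]

theorem ofCoord_κ (A : Type u) [CommRing A] [Algebra R A] (u : CA Q A) :
    ofCoord Q A (fun S => κ (bas R n A) (QA Q A) S u) = u :=
  (eq_sum_κ (bas R n A) (QA Q A) u).symm

theorem cA_ofCoord {A B : Type u} [CommRing A] [Algebra R A] [CommRing B] [Algebra R B] (φ : A →ₐ[R] B)
    (x : Finset (Fin n) → A) : cA Q φ (ofCoord Q A x) = ofCoord Q B (fun S => φ (x S)) := by
  simp only [cA, ofCoord, map_sum, cmap_smul, cmap_prodE]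
  rfl

/-- A family of subgroups of units of Clifford algebras cut out by conditions with an auxiliary unique element. -/
structure CCut (T : ∀ (A : Type u) [CommRing A] [Algebra R A], Subgroup (CA Q A)ˣ) (κ' : Type) where
  /-- the conditions -/
  cond : ∀ (A : Type u) [CommRing A] [Algebra R A], CA Q A → CA Q A → A → κ' → A
  /-- naturality -/
  nat : ∀ (A B : Type u) [CommRing A] [Algebra R A] [CommRing B] [Algebra R B] (φ : A →ₐ[R] B) (u v : CA Q A) (e : A)
    (i : κ'), φ (cond A u v e i) = cond B (cA Q φ u) (cA Q φ v) (φ e) i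
  /-- the conditions cut out the family -/
  spec : ∀ (A : Type u) [CommRing A] [Algebra R A] (w : (CA Q A)ˣ),
    w ∈ T A ↔ ∃ e, ∀ i, cond A w ↑w⁻¹ e i = 0
  /-- the auxiliary element is unique -/
  uniq : ∀ (A : Type u) [CommRing A] [Algebra R A] (w : (CA Q A)ˣ) (e e' : A),
    (∀ i, cond A w ↑w⁻¹ e i = 0) → (∀ i, cond A w ↑w⁻¹ e' i = 0) → e = e'

variable {Q} {T : ∀ (A : Type u) [CommRing A] [Algebra R A], Subgroup (CA Q A)ˣ} {κ' : Type} (c : CCut Q T κ')

/-- The variables: coordinates of a unit, of its inverse, and the auxiliary element. -/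
abbrev CVar (n : ℕ) : Type := (Finset (Fin n) ⊕ Finset (Fin n)) ⊕ Unit

variable (Q) in
/-- The element in the first variables. -/
noncomputable def el1 {A : Type u} [CommRing A] [Algebra R A] (x : CVar n → A) : CA Q A :=
  ofCoord Q A fun S => x (Sum.inl (Sum.inl S))

variable (Q) in
/-- The element in the second variables. -/
noncomputable def el2 {A : Type u} [CommRing A] [Algebra R A] (x : CVar n → A) : CA Q A :=
  ofCoord Q A fun S => x (Sum.inl (Sum.inr S))

/-- All the conditions. -/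
noncomputable def CCut.all (A : Type u) [CommRing A] [Algebra R A] (x : CVar n → A) :
    (Finset (Fin n) ⊕ Finset (Fin n)) ⊕ κ' → A :=
  Sum.elim (Sum.elim (fun S => κ (bas R n A) (QA Q A) S (el1 Q x * el2 Q x - 1))
      (fun S => κ (bas R n A) (QA Q A) S (el2 Q x * el1 Q x - 1)))
    (c.cond A (el1 Q x) (el2 Q x) (x (Sum.inr ())))

/-- The equations. -/
noncomputable def CCut.eqs (i : (Finset (Fin n) ⊕ Finset (Fin n)) ⊕ κ') : MvPolynomial (CVar n) R :=
  c.all (MvPolynomial (CVar n) R) MvPolynomial.X i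

theorem CCut.aeval_eqs {A : Type u} [CommRing A] [Algebra R A] (x : CVar n → A)
    (i : (Finset (Fin n) ⊕ Finset (Fin n)) ⊕ κ') : MvPolynomial.aeval x (c.eqs i) = c.all A x i := by
  have h1 : cA Q (MvPolynomial.aeval x) (el1 Q (MvPolynomial.X : CVar n → MvPolynomial (CVar n) R)) = el1 Q x := by
    rw [el1, cA_ofCoord]; simp [el1]
  have h2 : cA Q (MvPolynomial.aeval x) (el2 Q (MvPolynomial.X : CVar n → MvPolynomial (CVar n) R)) = el2 Q x := by
    rw [el2, cA_ofCoord]; simp [el2]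
  rcases i with (S | S) | i
  · refine (κ_cA Q (MvPolynomial.aeval x) S _).symm.trans (congrArg _ ?_)
    rw [map_sub, map_mul, map_one, h1, h2]
  · refine (κ_cA Q (MvPolynomial.aeval x) S _).symm.trans (congrArg _ ?_)
    rw [map_sub, map_mul, map_one, h1, h2]
  · refine (c.nat _ _ (MvPolynomial.aeval x) _ _ _ i).trans ?_
    rw [h1, h2, MvPolynomial.aeval_X]
    rfl

theorem CCut.sol12 {A : Type u} [CommRing A] [Algebra R A] (x : Sol c.eqs A) : el1 Q x.1 * el2 Q x.1 = 1 :=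
  sub_eq_zero.mp (eq_of_κ (bas R n A) _ fun S => by
    rw [map_zero]; exact (c.aeval_eqs x.1 (Sum.inl (Sum.inl S))).symm.trans (x.2 _))

theorem CCut.sol21 {A : Type u} [CommRing A] [Algebra R A] (x : Sol c.eqs A) : el2 Q x.1 * el1 Q x.1 = 1 :=
  sub_eq_zero.mp (eq_of_κ (bas R n A) _ fun S => by
    rw [map_zero]; exact (c.aeval_eqs x.1 (Sum.inl (Sum.inr S))).symm.trans (x.2 _))

theorem CCut.sol_cond {A : Type u} [CommRing A] [Algebra R A] (x : Sol c.eqs A) (i : κ') :
    c.cond A (el1 Q x.1) (el2 Q x.1) (x.1 (Sum.inr ())) i = 0 :=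
  (c.aeval_eqs x.1 (Sum.inr i)).symm.trans (x.2 _)

/-- The unit of a solution. -/
noncomputable def CCut.unitOf {A : Type u} [CommRing A] [Algebra R A] (x : Sol c.eqs A) : (CA Q A)ˣ :=
  ⟨el1 Q x.1, el2 Q x.1, c.sol12 x, c.sol21 x⟩

theorem CCut.unitOf_mem {A : Type u} [CommRing A] [Algebra R A] (x : Sol c.eqs A) : c.unitOf x ∈ T A :=
  (c.spec A _).mpr ⟨_, c.sol_cond x⟩

theorem CCut.unitOf_injective {A : Type u} [CommRing A] [Algebra R A] {x y : Sol c.eqs A}
    (h : c.unitOf x = c.unitOf y) : x = y := by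
  have h1 : el1 Q x.1 = el1 Q y.1 := congrArg (fun w : (CA Q A)ˣ => (w : CA Q A)) h
  have h2 : el2 Q x.1 = el2 Q y.1 := congrArg (fun w : (CA Q A)ˣ => (↑w⁻¹ : CA Q A)) h
  have h3 : x.1 (Sum.inr ()) = y.1 (Sum.inr ()) := by
    refine c.uniq A (c.unitOf x) _ _ (c.sol_cond x) fun i => ?_
    rw [h]
    exact c.sol_cond y i
  refine Subtype.ext (funext fun v => ?_)
  rcases v with (S | S) | i
  · have := congrArg (κ (bas R n A) (QA Q A) S) h1
    rwa [el1, el1, κ_ofCoord, κ_ofCoord] at this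
  · have := congrArg (κ (bas R n A) (QA Q A) S) h2
    rwa [el2, el2, κ_ofCoord, κ_ofCoord] at this
  · exact h3

theorem CCut.unitOf_surjective {A : Type u} [CommRing A] [Algebra R A] (w : (CA Q A)ˣ) (hw : w ∈ T A) :
    ∃ x : Sol c.eqs A, c.unitOf x = w := by
  obtain ⟨e, he⟩ := (c.spec A w).mp hw
  let x : CVar n → A := Sum.elim (Sum.elim (fun S => κ (bas R n A) (QA Q A) S (w : CA Q A))
    (fun S => κ (bas R n A) (QA Q A) S (↑w⁻¹ : CA Q A))) (fun _ => e)
  have h1 : el1 Q x = w := ofCoord_κ Q A _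
  have h2 : el2 Q x = ↑w⁻¹ := ofCoord_κ Q A _
  refine ⟨⟨x, fun i => ?_⟩, Units.ext h1⟩
  rw [c.aeval_eqs]
  rcases i with (S | S) | i
  · show κ _ _ S (el1 Q x * el2 Q x - 1) = 0
    rw [h1, h2, Units.mul_inv, sub_self, map_zero]
  · show κ _ _ S (el2 Q x * el1 Q x - 1) = 0
    rw [h1, h2, Units.inv_mul, sub_self, map_zero]
  · show c.cond A (el1 Q x) (el2 Q x) e i = 0
    rw [h1, h2]
    exact he i

/-- Solutions are members of the family. -/
noncomputable def CCut.solEquiv (A : Type u) [CommRing A] [Algebra R A] : Sol c.eqs A ≃ ↥(T A) :=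
  Equiv.ofBijective (fun x => ⟨c.unitOf x, c.unitOf_mem x⟩)
    ⟨fun _ _ h => c.unitOf_injective (congrArg Subtype.val h), fun w => by
      obtain ⟨x, hx⟩ := c.unitOf_surjective w.1 w.2
      exact ⟨x, Subtype.ext hx⟩⟩

/-- Points of the presented algebra. -/
noncomputable def CCut.ev (A : Type u) [CommRing A] [Algebra R A] : (Pres c.eqs →ₐ[R] A) ≃ ↥(T A) :=
  (presEquiv c.eqs A).trans (c.solEquiv A)

theorem CCut.ev_val {A : Type u} [CommRing A] [Algebra R A] (ψ : Pres c.eqs →ₐ[R] A) :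
    ((c.ev A ψ).1 : CA Q A) = el1 Q (presEquiv c.eqs A ψ).1 := rfl

theorem CCut.ev_comp {A B : Type u} [CommRing A] [Algebra R A] [CommRing B] [Algebra R B] (φ : A →ₐ[R] B)
    (ψ : Pres c.eqs →ₐ[R] A) :
    ((c.ev B (φ.comp ψ)).1 : CA Q B) = cA Q φ ((c.ev A ψ).1 : CA Q A) := by
  rw [c.ev_val, c.ev_val, el1, el1, cA_ofCoord, presEquiv_comp]

variable {G : Over (Spec (CommRingCat.of R))} [GrpObj G]

open MonObj in
theorem CCut.bijPts (D : QuadGrp.CliffRep Q T G) :
    ∃ u : QuadGrp.specOver R (Pres c.eqs) ⟶ G, BijPts (Pres c.eqs) u := by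
  refine ⟨_, bijPts_of_equiv (fun A _ _ => ↥(T A)) (fun A _ _ => (D.pts A).toEquiv) (fun A _ _ => c.ev A)
    fun A B _ _ _ _ φ y ψ h => Subtype.ext (Units.ext ?_)⟩
  rw [c.ev_comp, ← h]
  exact D.natural A B φ (cA Q φ) (cA_ι Q φ) (fun a => cmap_algebraMap (compat_bas Q φ) a) y

variable (Q) in
/-- The family lifts along square zero surjections of local rings. -/
def LiftT (T : ∀ (A : Type u) [CommRing A] [Algebra R A], Subgroup (CA Q A)ˣ) : Prop :=
  ∀ (A B : Type u) [CommRing A] [Algebra R A] [CommRing B] [Algebra R B] [IsLocalRing A] [IsLocalRing B]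
    (π : A →ₐ[R] B), Function.Surjective π → (∀ a b, π a = 0 → π b = 0 → a * b = 0) →
    ∀ u' ∈ T B, ∃ u ∈ T A, cA Q π (u : CA Q A) = (u' : CA Q B)

include c in
theorem CCut.smooth [Finite κ'] (D : QuadGrp.CliffRep Q T G) (h : LiftT Q T) :
    Smooth G.hom ∧ IsAffineHom G.hom := by
  obtain ⟨u, hu⟩ := c.bijPts D
  refine ⟨hu.smooth_iff.mpr ?_, hu.isAffineHom⟩
  haveI := pres_finitePresentation c.eqs
  refine ⟨formallySmooth_of_localLift fun A B _ _ _ _ _ _ π hπ h0 f => ?_, inferInstance⟩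
  obtain ⟨g, hg, hgm⟩ := h A B π hπ h0 (c.ev B f).1 (c.ev B f).2
  refine ⟨(c.ev A).symm ⟨g, hg⟩, (c.ev B).injective (Subtype.ext (Units.ext ?_))⟩
  rw [c.ev_comp, Equiv.apply_symm_apply, hgm]

section Conditions

variable (Q)

theorem mem_range_ι_iff {A : Type u} [CommRing A] [Algebra R A] (x : CA Q A) :
    x ∈ LinearMap.range (CliffordAlgebra.ι (QA Q A)) ↔
      ∀ S : Finset (Fin n), S.card ≠ 1 → κ (bas R n A) (QA Q A) S x = 0 := by
  constructor
  · rintro ⟨v, rfl⟩ S hS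
    rw [← (bas R n A).sum_repr v, map_sum, map_sum]
    refine Finset.sum_eq_zero fun i _ => ?_
    rw [map_smul, map_smul, ← prodE_singleton (bas R n A) (QA Q A) i, κ_prodE, if_neg, smul_zero]
    intro e
    exact hS (by rw [← e]; rfl)
  · intro h
    rw [eq_sum_κ (bas R n A) (QA Q A) x]
    refine Submodule.sum_mem _ fun S _ => ?_
    by_cases hS : S.card = 1
    · obtain ⟨i, rfl⟩ := Finset.card_eq_one.mp hS
      rw [prodE_singleton]
      exact Submodule.smul_mem _ _ (LinearMap.mem_range_self _ _)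
    · rw [h S hS, zero_smul]; exact Submodule.zero_mem _

theorem mem_GPin'_iff_basis {A : Type u} [CommRing A] [Algebra R A] (w : (CA Q A)ˣ) :
    w ∈ QuadGrp.GPin' (QA Q A) ↔ ∀ i,
      (w : CA Q A) * CliffordAlgebra.ι _ (bas R n A i) * (↑w⁻¹ : CA Q A) ∈ LinearMap.range (CliffordAlgebra.ι (QA Q A)) ∧
      (↑w⁻¹ : CA Q A) * CliffordAlgebra.ι _ (bas R n A i) * (w : CA Q A) ∈ LinearMap.range (CliffordAlgebra.ι (QA Q A)) := by
  constructor
  · intro hw i
    obtain ⟨g, -, hg, -⟩ := exists_conj (bas R n A) (QA Q A) w hw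
    obtain ⟨g', -, hg', -⟩ := exists_conj (bas R n A) (QA Q A) w⁻¹ ((QuadGrp.GPin' _).inv_mem hw)
    have h2 := hg' (bas R n A i)
    rw [inv_inv] at h2
    exact ⟨⟨_, (hg _).symm⟩, ⟨_, h2.symm⟩⟩
  · intro h
    have hall : ∀ v, (w : CA Q A) * CliffordAlgebra.ι _ v * (↑w⁻¹ : CA Q A) ∈ LinearMap.range (CliffordAlgebra.ι (QA Q A)) ∧
        (↑w⁻¹ : CA Q A) * CliffordAlgebra.ι _ v * (w : CA Q A) ∈ LinearMap.range (CliffordAlgebra.ι (QA Q A)) := fun v => by
      rw [← (bas R n A).sum_repr v, map_sum]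
      simp only [Finset.mul_sum, Finset.sum_mul, map_smul, mul_smul_comm, smul_mul_assoc]
      exact ⟨Submodule.sum_mem _ fun i _ => Submodule.smul_mem _ _ (h i).1,
        Submodule.sum_mem _ fun i _ => Submodule.smul_mem _ _ (h i).2⟩
    rw [QuadGrp.mem_GPin']
    refine SetLike.coe_injective ?_
    rw [Submodule.coe_pointwise_smul]
    ext x
    constructor
    · rintro ⟨_, ⟨v, rfl⟩, rfl⟩
      exact (hall v).1
    · rintro ⟨v, rfl⟩
      refine ⟨_, (hall v).2, ?_⟩
      show ConjAct.toConjAct w • _ = _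
      rw [ConjAct.units_smul_def, ConjAct.ofConjAct_toConjAct]
      simp [mul_assoc]

/-- The coefficient in the homogeneity condition. -/
def lhCoef {A : Type u} [CommRing A] (e : A) (S : Finset (Fin n)) : A := if (S.card : ZMod 2) = 0 then 1 - e else e

/-- The conditions of the Clifford group. -/
noncomputable def condGPin (A : Type u) [CommRing A] [Algebra R A] (u v : CA Q A) (e : A) :
    ((Fin n × Finset (Fin n)) ⊕ (Fin n × Finset (Fin n))) ⊕ (Unit ⊕ Finset (Fin n)) → A :=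
  Sum.elim
    (Sum.elim (fun p => if p.2.card = 1 then 0 else
        κ (bas R n A) (QA Q A) p.2 (u * CliffordAlgebra.ι _ (bas R n A p.1) * v))
      (fun p => if p.2.card = 1 then 0 else
        κ (bas R n A) (QA Q A) p.2 (v * CliffordAlgebra.ι _ (bas R n A p.1) * u)))
    (Sum.elim (fun _ => e * e - e) (fun S => lhCoef e S * κ (bas R n A) (QA Q A) S u))

theorem cA_ι_bas {A B : Type u} [CommRing A] [Algebra R A] [CommRing B] [Algebra R B] (φ : A →ₐ[R] B) (i : Fin n) :
    cA Q φ (CliffordAlgebra.ι _ (bas R n A i)) = CliffordAlgebra.ι _ (bas R n B i) :=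
  cmap_ι_basis (compat_bas Q φ) i

theorem condGPin_nat (A B : Type u) [CommRing A] [Algebra R A] [CommRing B] [Algebra R B] (φ : A →ₐ[R] B)
    (u v : CA Q A) (e : A) (i : ((Fin n × Finset (Fin n)) ⊕ (Fin n × Finset (Fin n))) ⊕ (Unit ⊕ Finset (Fin n))) :
    φ (condGPin Q A u v e i) = condGPin Q B (cA Q φ u) (cA Q φ v) (φ e) i := by
  rcases i with (p | p) | (i | S)
  · simp only [condGPin, Sum.elim_inl, apply_ite φ, map_zero, ← κ_cA, map_mul, cA_ι_bas]
  · simp only [condGPin, Sum.elim_inl, Sum.elim_inr, apply_ite φ, map_zero, ← κ_cA, map_mul, cA_ι_bas]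
  · simp only [condGPin, Sum.elim_inl, Sum.elim_inr, map_sub, map_mul]
  · simp only [condGPin, Sum.elim_inr, lhCoef, map_mul, apply_ite φ, map_sub, map_one, ← κ_cA]

theorem lh_iff {A : Type u} [CommRing A] [Algebra R A] (x : CA Q A) (e : A) :
    (e • x ∈ CliffordAlgebra.evenOdd (QA Q A) 0 ∧ (1 - e) • x ∈ CliffordAlgebra.evenOdd (QA Q A) 1) ↔
      ∀ S : Finset (Fin n), lhCoef e S * κ (bas R n A) (QA Q A) S x = 0 := by
  constructor
  · rintro ⟨h0, h1⟩ S
    rw [lhCoef, ← smul_eq_mul]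
    split_ifs with hS
    · rw [← map_smul]
      refine κ_eq_zero_of_parity (bas R n A) (QA Q A) h1 ?_
      rw [hS]; exact zero_ne_one
    · rw [← map_smul]
      exact κ_eq_zero_of_parity (bas R n A) (QA Q A) h0 hS
  · intro h
    refine ⟨mem_evenOdd_of_κ (b := bas R n A) fun S hS => ?_, mem_evenOdd_of_κ (b := bas R n A) fun S hS => ?_⟩
    · rw [map_smul, smul_eq_mul]
      have := h S
      rwa [lhCoef, if_neg hS] at this
    · rw [map_smul, smul_eq_mul]
      have := h S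
      rwa [lhCoef, if_pos (((by decide : ∀ j : ZMod 2, j = 0 ∨ j = 1) _).resolve_right hS)] at this

theorem condGPin_spec (A : Type u) [CommRing A] [Algebra R A] (w : (CA Q A)ˣ) :
    w ∈ QuadGrp.gpin Q A ↔ ∃ e, ∀ i, condGPin Q A w ↑w⁻¹ e i = 0 := by
  constructor
  · rintro ⟨hw, e, he, he0, he1⟩
    refine ⟨e, ?_⟩
    rintro ((⟨i, S⟩ | ⟨i, S⟩) | (i | S))
    · simp only [condGPin, Sum.elim_inl]
      split_ifs with hS
      · rfl
      · exact (mem_range_ι_iff Q _).mp ((mem_GPin'_iff_basis Q w).mp hw i).1 S hS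
    · simp only [condGPin, Sum.elim_inl, Sum.elim_inr]
      split_ifs with hS
      · rfl
      · exact (mem_range_ι_iff Q _).mp ((mem_GPin'_iff_basis Q w).mp hw i).2 S hS
    · exact sub_eq_zero.mpr he.eq
    · exact (lh_iff Q _ e).mp ⟨he0, he1⟩ S
  · rintro ⟨e, h⟩
    refine ⟨(mem_GPin'_iff_basis Q w).mpr fun i => ⟨(mem_range_ι_iff Q _).mpr fun S hS => ?_,
      (mem_range_ι_iff Q _).mpr fun S hS => ?_⟩, e, sub_eq_zero.mp (h (Sum.inr (Sum.inl ()))),
      (lh_iff Q _ e).mpr fun S => h (Sum.inr (Sum.inr S))⟩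
    · have := h (Sum.inl (Sum.inl (i, S)))
      simpa [condGPin, hS] using this
    · have := h (Sum.inl (Sum.inr (i, S)))
      simpa [condGPin, hS] using this

theorem condGPin_uniq (A : Type u) [CommRing A] [Algebra R A] (w : (CA Q A)ˣ) (e e' : A)
    (h : ∀ i, condGPin Q A w ↑w⁻¹ e i = 0) (h' : ∀ i, condGPin Q A w ↑w⁻¹ e' i = 0) : e = e' := by
  obtain ⟨h0, h1⟩ := (lh_iff Q (w : CA Q A) e).mpr fun S => h (Sum.inr (Sum.inr S))
  obtain ⟨h0', h1'⟩ := (lh_iff Q (w : CA Q A) e').mpr fun S => h' (Sum.inr (Sum.inr S))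
  have key : ∀ a b : A, a • (w : CA Q A) ∈ CliffordAlgebra.evenOdd (QA Q A) 0 →
      b • (w : CA Q A) ∈ CliffordAlgebra.evenOdd (QA Q A) 1 → a * b = 0 := fun a b ha hb => by
    have hz : (a * b) • (w : CA Q A) = 0 := Submodule.disjoint_def.mp (CliffordAlgebra.evenOdd_isCompl (QA Q A)).disjoint _
      (by rw [mul_comm, mul_smul]; exact Submodule.smul_mem _ _ ha) (by rw [mul_smul]; exact Submodule.smul_mem _ _ hb)
    rw [Algebra.smul_def, w.isUnit.mul_left_eq_zero] at hz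
    exact algebraMap_injective (bas R n A) (QA Q A) (by rw [hz, map_zero])
  linear_combination key e (1 - e') h0 h1' - key e' (1 - e) h0' h1

/-- The Clifford group is cut out. -/
noncomputable def cutGPin : CCut Q (fun A _ _ => QuadGrp.gpin Q A)
    (((Fin n × Finset (Fin n)) ⊕ (Fin n × Finset (Fin n))) ⊕ (Unit ⊕ Finset (Fin n))) where
  cond := condGPin Q
  nat := condGPin_nat Q
  spec := condGPin_spec Q
  uniq := condGPin_uniq Q

/-- The conditions of the Pin group. -/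
noncomputable def condPin (A : Type u) [CommRing A] [Algebra R A] (u v : CA Q A) (e : A) :
    (((Fin n × Finset (Fin n)) ⊕ (Fin n × Finset (Fin n))) ⊕ (Unit ⊕ Finset (Fin n))) ⊕ Finset (Fin n) → A :=
  Sum.elim (condGPin Q A u v e) fun S => κ (bas R n A) (QA Q A) S (star u * u - 1)

/-- The Pin group is cut out. -/
noncomputable def cutPin : CCut Q (fun A _ _ => QuadGrp.pin Q A)
    ((((Fin n × Finset (Fin n)) ⊕ (Fin n × Finset (Fin n))) ⊕ (Unit ⊕ Finset (Fin n))) ⊕ Finset (Fin n)) where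
  cond := condPin Q
  nat A B _ _ _ _ φ u v e i := by
    rcases i with i | S
    · exact condGPin_nat Q A B φ u v e i
    · refine (κ_cA Q φ S _).symm.trans (congrArg _ ?_)
      rw [map_sub, map_mul, map_one, cA, cmap_star]
  spec A _ _ w := by
    constructor
    · rintro ⟨h, hN⟩
      obtain ⟨e, he⟩ := (condGPin_spec Q A w).mp h
      refine ⟨e, ?_⟩
      rintro (i | S)
      · exact he i
      · show κ (bas R n A) (QA Q A) S (star (w : CA Q A) * (w : CA Q A) - 1) = 0
        rw [show star (w : CA Q A) * (w : CA Q A) = 1 from hN, sub_self, map_zero]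
    · rintro ⟨e, h⟩
      exact ⟨(condGPin_spec Q A w).mpr ⟨e, fun i => h (Sum.inl i)⟩,
        sub_eq_zero.mp (eq_of_κ (bas R n A) _ fun S => by rw [map_zero]; exact h (Sum.inr S))⟩
  uniq A _ _ w e e' h h' := condGPin_uniq Q A w e e' (fun i => h (Sum.inl i)) (fun i => h' (Sum.inl i))

theorem liftGPin_even {m : ℕ} (hn : n = 2 * m) (hm : 0 < m) (hQ : QuadGrp.IsRegular Q) :
    LiftT Q (fun A _ _ => QuadGrp.gpin Q A) := by
  intro A B _ _ _ _ _ _ π hπ h0 u' hu'
  obtain ⟨u, hu, he⟩ := exists_lift_GPin_even π.toRingHom hπ h0 (bas R n A) (bas R n B) (QA Q A) (QA Q B)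
    (compat_bas Q π) hn hm (isRegular_QA Q hQ A) u' hu'
  exact ⟨u, hu, congrArg (fun w : (CA Q B)ˣ => (w : CA Q B)) he⟩

theorem liftGPin_odd {m : ℕ} (hn : n = 2 * m + 1)
    (hQ : IsUnit (QuadGrp.halfDisc (Pi.basisFun R (Fin n)) (LinearEquiv.refl R R) Q)) :
    LiftT Q (fun A _ _ => QuadGrp.gpin Q A) := by
  intro A B _ _ _ _ _ _ π hπ h0 u' hu'
  obtain ⟨u, hu, he⟩ := exists_lift_GPin_odd π.toRingHom hπ h0 (bas R n A) (bas R n B) (QA Q A) (QA Q B)
    (compat_bas Q π) hn (isUnit_halfDisc_QA Q hQ A) u' hu'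
  exact ⟨u, hu, congrArg (fun w : (CA Q B)ˣ => (w : CA Q B)) he⟩

theorem liftPin_odd {m : ℕ} (hn : n = 2 * m + 1) (hm : 1 ≤ m)
    (hQ : IsUnit (QuadGrp.halfDisc (Pi.basisFun R (Fin n)) (LinearEquiv.refl R R) Q)) :
    LiftT Q (fun A _ _ => QuadGrp.pin Q A) := by
  intro A B _ _ _ _ _ _ π hπ h0 u' hu'
  obtain ⟨u, hu, he⟩ := exists_lift_Pin_odd π.toRingHom hπ h0 (bas R n A) (bas R n B) (QA Q A) (QA Q B)
    (compat_bas Q π) hn (isUnit_halfDisc_QA Q hQ A) hm u' hu'
  exact ⟨u, hu, congrArg (fun w : (CA Q B)ˣ => (w : CA Q B)) he⟩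

end Conditions

end Groth.Agent.QRepLib
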