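import Groth.Agent.QRepLib.Lin
import Mathlib.Algebra.DualNumber
import Mathlib.RingTheory.Smooth.StandardSmoothOfFree
import Mathlib.RingTheory.Smooth.StandardSmoothCotangent
import Mathlib.RingTheory.Kaehler.Basic

/-! Relative dimension of a group of matrices cut out by conditions, from its tangent space. -/

namespace Groth.Agent.QRepLib

open CategoryTheory AlgebraicGeometry
open scoped TensorProduct

universe u

variable {R : Type u} [CommRing R]

section Hom

variable {L K : Type u} [CommRing L] [Algebra R L] [CommRing K] [Algebra R K]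

theorem dualRep (x : DualNumber K) : TrivSqZeroExt.inl x.fst + TrivSqZeroExt.inr x.snd = x :=
  TrivSqZeroExt.inl_fst_add_inr_snd_eq x

variable [Algebra L K] [IsScalarTower R L K]

/-- The homomorphism to dual numbers of a derivation. -/
noncomputable def homOfDer (D : Derivation R L K) : L →ₐ[R] DualNumber K where
  toFun c := TrivSqZeroExt.inl (algebraMap L K c) + TrivSqZeroExt.inr (D c)
  map_one' := by simp
  map_mul' x y := by
    rw [D.leibniz, Algebra.smul_def, Algebra.smul_def]
    ext
    · simp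
    · simp [mul_comm]
  map_zero' := by simp
  map_add' x y := by
    ext <;> simp
  commutes' r := by
    ext
    · simp [TrivSqZeroExt.algebraMap_eq_inl', ← IsScalarTower.algebraMap_apply R L K]
    · simp [TrivSqZeroExt.algebraMap_eq_inl']

theorem homOfDer_apply (D : Derivation R L K) (c : L) :
    homOfDer D c = TrivSqZeroExt.inl (algebraMap L K c) + TrivSqZeroExt.inr (D c) := rfl

/-- The derivation of a homomorphism to dual numbers. -/
noncomputable def derOfHom (φ : L →ₐ[R] DualNumber K) (hφ : ∀ c, (φ c).fst = algebraMap L K c) : Derivation R L K where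
  toFun c := (φ c).snd
  map_add' x y := by simp
  map_smul' r x := by
    rw [map_smul, TrivSqZeroExt.snd_smul]; rfl
  map_one_eq_zero' := by
    show (φ 1).snd = 0
    rw [map_one]; rfl
  leibniz' x y := by
    show (φ (x * y)).snd = x • (φ y).snd + y • (φ x).snd
    rw [map_mul, DualNumber.snd_mul, hφ, hφ, Algebra.smul_def, Algebra.smul_def]
    ring

theorem homOfDer_derOfHom (φ : L →ₐ[R] DualNumber K) (hφ : ∀ c, (φ c).fst = algebraMap L K c) :
    homOfDer (derOfHom φ hφ) = φ := AlgHom.ext fun c => by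
  rw [homOfDer_apply]
  conv_rhs => rw [← dualRep (φ c), hφ c]
  rfl

end Hom

variable {n : ℕ}

/-- The matrix `1 + εU`. -/
noncomputable def dualMat {K : Type u} [CommRing K] (U : Matrix (Fin n) (Fin n) K) :
    Matrix (Fin n) (Fin n) (DualNumber K) :=
  (1 : Matrix (Fin n) (Fin n) K).map TrivSqZeroExt.inl + U.map TrivSqZeroExt.inr

theorem map_fst_mul {K : Type u} [CommRing K] (X Y : Matrix (Fin n) (Fin n) (DualNumber K)) :
    (X * Y).map TrivSqZeroExt.fst = X.map TrivSqZeroExt.fst * Y.map TrivSqZeroExt.fst :=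
  Matrix.map_mul (f := (TrivSqZeroExt.fstHom ℕ K K).toRingHom)

theorem map_snd_mul {K : Type u} [CommRing K] (X Y : Matrix (Fin n) (Fin n) (DualNumber K)) :
    (X * Y).map TrivSqZeroExt.snd =
      X.map TrivSqZeroExt.fst * Y.map TrivSqZeroExt.snd + X.map TrivSqZeroExt.snd * Y.map TrivSqZeroExt.fst := by
  ext i j
  simp [Matrix.mul_apply, TrivSqZeroExt.snd_sum, Finset.sum_add_distrib, DualNumber.snd_mul]

theorem dualMat_fst {K : Type u} [CommRing K] (U : Matrix (Fin n) (Fin n) K) :
    (dualMat U).map TrivSqZeroExt.fst = 1 := by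
  ext i j; by_cases h : i = j <;> simp [dualMat, Matrix.one_apply, h]

theorem dualMat_snd {K : Type u} [CommRing K] (U : Matrix (Fin n) (Fin n) K) :
    (dualMat U).map TrivSqZeroExt.snd = U := by
  ext i j; by_cases h : i = j <;> simp [dualMat, Matrix.one_apply, h]

theorem inl_map_fst {K : Type u} [CommRing K] (X : Matrix (Fin n) (Fin n) K) :
    (X.map TrivSqZeroExt.inl : Matrix (Fin n) (Fin n) (DualNumber K)).map TrivSqZeroExt.fst = X := by
  ext; simp

theorem inl_map_snd {K : Type u} [CommRing K] (X : Matrix (Fin n) (Fin n) K) :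
    (X.map TrivSqZeroExt.inl : Matrix (Fin n) (Fin n) (DualNumber K)).map TrivSqZeroExt.snd = (0 : Matrix (Fin n) (Fin n) K) := by
  ext; simp

theorem ext_fst_snd {K : Type u} [CommRing K] {X Y : Matrix (Fin n) (Fin n) (DualNumber K)}
    (h1 : X.map TrivSqZeroExt.fst = Y.map TrivSqZeroExt.fst) (h2 : X.map TrivSqZeroExt.snd = Y.map TrivSqZeroExt.snd) :
    X = Y :=
  Matrix.ext fun i j => TrivSqZeroExt.ext (congrFun (congrFun h1 i) j) (congrFun (congrFun h2 i) j)

theorem dualMat_mul {K : Type u} [CommRing K] (U V : Matrix (Fin n) (Fin n) K) :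
    dualMat U * dualMat V = dualMat (U + V) :=
  ext_fst_snd (by rw [map_fst_mul, dualMat_fst, dualMat_fst, dualMat_fst, mul_one])
    (by rw [map_snd_mul, dualMat_fst, dualMat_fst, dualMat_snd, dualMat_snd, dualMat_snd, one_mul, mul_one, add_comm])

theorem dualMat_zero {K : Type u} [CommRing K] : dualMat (0 : Matrix (Fin n) (Fin n) K) = 1 :=
  ext_fst_snd (by rw [dualMat_fst]; ext i j; simp [Matrix.one_apply, apply_ite TrivSqZeroExt.fst])
    (by rw [dualMat_snd]; ext i j; simp [Matrix.one_apply, apply_ite TrivSqZeroExt.snd])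

variable {S : ∀ (A : Type u) [CommRing A] [Algebra R A],
    Subgroup ((A ⊗[R] (Fin n → R)) ≃ₗ[A] (A ⊗[R] (Fin n → R)))} {κ : Type} (c : Cut S κ)

theorem Cut.cond_mul {A : Type u} [CommRing A] [Algebra R A] {M N M' N' : Matrix (Fin n) (Fin n) A}
    (hM1 : M * M' = 1) (hM2 : M' * M = 1) (hN1 : N * N' = 1) (hN2 : N' * N = 1)
    (hM : ∀ i, c.cond A M i = 0) (hN : ∀ i, c.cond A N i = 0) (i : κ) : c.cond A (M * N) i = 0 := by
  have h1 : linOfMat (R := R) M M' hM1 hM2 ∈ S A := (c.spec A _).mpr fun i => by rw [mat_linOfMat]; exact hM i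
  have h2 : linOfMat (R := R) N N' hN1 hN2 ∈ S A := (c.spec A _).mpr fun i => by rw [mat_linOfMat]; exact hN i
  have h := (c.spec A _).mp ((S A).mul_mem h1 h2) i
  rwa [show (linOfMat (R := R) M M' hM1 hM2 * linOfMat (R := R) N N' hN1 hN2).toLinearMap =
    (linOfMat (R := R) M M' hM1 hM2).toLinearMap ∘ₗ (linOfMat (R := R) N N' hN1 hN2).toLinearMap from rfl,
    ← mat_mul, mat_linOfMat, mat_linOfMat] at h

theorem Cut.cond_inv {A : Type u} [CommRing A] [Algebra R A] {M M' : Matrix (Fin n) (Fin n) A}
    (hM1 : M * M' = 1) (hM2 : M' * M = 1) (hM : ∀ i, c.cond A M i = 0) (i : κ) : c.cond A M' i = 0 := by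
  have h1 : linOfMat (R := R) M M' hM1 hM2 ∈ S A := (c.spec A _).mpr fun i => by rw [mat_linOfMat]; exact hM i
  have h := (c.spec A _).mp ((S A).inv_mem h1) i
  rwa [show (linOfMat (R := R) M M' hM1 hM2)⁻¹ = (linOfMat (R := R) M M' hM1 hM2).symm from rfl, mat_symm_linOfMat] at h

theorem Cut.sol_of {A : Type u} [CommRing A] [Algebra R A] {M M' : Matrix (Fin n) (Fin n) A}
    (hM1 : M * M' = 1) (hM2 : M' * M = 1) (hM : ∀ i, c.cond A M i = 0) :
    ∀ i, MvPolynomial.aeval (Sum.elim (fun p => M p.1 p.2) (fun p => M' p.1 p.2)) (c.eqs i) = 0 := fun i => by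
  rw [c.aeval_eqs]
  rcases i with (⟨a, b⟩ | ⟨a, b⟩) | i
  · show (M * M' - 1) a b = 0
    rw [hM1, sub_self]; rfl
  · show (M' * M - 1) a b = 0
    rw [hM2, sub_self]; rfl
  · exact hM i

/-- The tangent conditions. -/
def Cut.IsTangent {K : Type u} [CommRing K] [Algebra R K] (U : Matrix (Fin n) (Fin n) K) : Prop :=
  ∀ i, c.cond (DualNumber K) (dualMat U) i = 0

/-- The hypothesis that all tangent spaces have dimension `N`. -/
def Cut.TangentDim (N : ℕ) : Prop :=
  ∀ (K : Type u) [Field K] [Algebra R K], ∃ (J : Type) (_ : Fintype J), Fintype.card J = N ∧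
    ∃ Ψ : (J → K) →ₗ[K] Matrix (Fin n) (Fin n) K, Function.Injective Ψ ∧
      ∀ U, U ∈ LinearMap.range Ψ ↔ c.IsTangent U

section Point

variable {L K : Type u} [CommRing L] [Algebra R L] [Field K] [Algebra R K] [Algebra L K] [IsScalarTower R L K]
  (M M' : Matrix (Fin n) (Fin n) L)

/-- The tangent vector of a derivation. -/
noncomputable def tvec : Derivation R L K →ₗ[K] Matrix (Fin n) (Fin n) K where
  toFun D := M.map (fun x => D x) * M'.map (algebraMap L K)
  map_add' D E := by rw [← Matrix.add_mul]; rfl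
  map_smul' k D := by rw [RingHom.id_apply, ← Matrix.smul_mul]; rfl

theorem map_homOfDer_fst (D : Derivation R L K) (M : Matrix (Fin n) (Fin n) L) :
    (M.map (homOfDer D)).map TrivSqZeroExt.fst = M.map (algebraMap L K) := by
  ext i j; simp [homOfDer_apply]

theorem map_homOfDer_snd (D : Derivation R L K) (M : Matrix (Fin n) (Fin n) L) :
    (M.map (homOfDer D)).map TrivSqZeroExt.snd = M.map (fun x => D x) := by
  ext i j; simp [homOfDer_apply]

variable {M M'} (h1 : M * M' = 1) (h2 : M' * M = 1) (hc : ∀ i, c.cond L M i = 0)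

variable (K) in
include h1 h2 in
theorem point_inl : ((M.map (algebraMap L K)).map TrivSqZeroExt.inl : Matrix (Fin n) (Fin n) (DualNumber K)) *
      (M'.map (algebraMap L K)).map TrivSqZeroExt.inl = 1 ∧
    ((M'.map (algebraMap L K)).map TrivSqZeroExt.inl : Matrix (Fin n) (Fin n) (DualNumber K)) *
      (M.map (algebraMap L K)).map TrivSqZeroExt.inl = 1 := by
  let χ : L →+* DualNumber K := (TrivSqZeroExt.inlHom K K).comp (algebraMap L K)
  have e : ∀ X : Matrix (Fin n) (Fin n) L, (X.map (algebraMap L K)).map TrivSqZeroExt.inl = X.map χ := fun X => by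
    ext <;> simp [χ]
  rw [e, e, ← Matrix.map_mul, ← Matrix.map_mul, h1, h2, Matrix.map_one χ (map_zero χ) (map_one χ)]
  exact ⟨rfl, rfl⟩

include hc in
theorem cond_point : ∀ i, c.cond (DualNumber K) ((M.map (algebraMap L K)).map TrivSqZeroExt.inl) i = 0 := fun i => by
  have h := c.nat L (DualNumber K) ((TrivSqZeroExt.inlAlgHom R K K).comp (IsScalarTower.toAlgHom R L K)) M i
  rw [hc, map_zero] at h
  rw [Matrix.map_map]
  exact h.symm

include h1 h2 hc in
theorem isTangent_tvec (D : Derivation R L K) : c.IsTangent (tvec M M' D) := fun i => by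
  have hG1 : M.map (homOfDer D) * M'.map (homOfDer D) = 1 := by
    rw [← Matrix.map_mul, h1, Matrix.map_one _ (map_zero _) (map_one _)]
  have hG2 : M'.map (homOfDer D) * M.map (homOfDer D) = 1 := by
    rw [← Matrix.map_mul, h2, Matrix.map_one _ (map_zero _) (map_one _)]
  have hGc : ∀ i, c.cond (DualNumber K) (M.map (homOfDer D)) i = 0 := fun i => by
    rw [← c.nat L (DualNumber K) (homOfDer D) M i, hc, map_zero]
  obtain ⟨hP1, hP2⟩ := point_inl K h1 h2
  have he : dualMat (tvec M M' D) = M.map (homOfDer D) * (M'.map (algebraMap L K)).map TrivSqZeroExt.inl := by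
    refine ext_fst_snd ?_ ?_
    · rw [dualMat_fst, map_fst_mul, map_homOfDer_fst, inl_map_fst, ← Matrix.map_mul, h1,
        Matrix.map_one _ (map_zero _) (map_one _)]
    · rw [dualMat_snd, map_snd_mul, map_homOfDer_fst, map_homOfDer_snd, inl_map_snd, inl_map_fst, Matrix.mul_zero,
        zero_add]
      rfl
  rw [he]
  exact c.cond_mul hG1 hG2 hP2 hP1 hGc (c.cond_inv hP1 hP2 (cond_point c hc)) i

end Point

variable {G : Over (Spec (CommRingCat.of R))} [GrpObj G]

theorem BijPts.smoothOfRelativeDimension_iff {C : Type u} [CommRing C] [Algebra R C]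
    {u : QuadGrp.specOver R C ⟶ G} (h : BijPts C u) (N : ℕ) :
    SmoothOfRelativeDimension N G.hom ↔
      RingHom.Locally (RingHom.IsStandardSmoothOfRelativeDimension N) (algebraMap R C) := by
  haveI := h.isIso_leftHom
  haveI : MorphismProperty.RespectsIso (@SmoothOfRelativeDimension N) := by
    rw [HasRingHomProperty.eq_affineLocally (@SmoothOfRelativeDimension N)]
    exact affineLocally_respectsIso _
      (HasRingHomProperty.isLocal_ringHomProperty (@SmoothOfRelativeDimension N)).respectsIso
  have e : G.hom = inv (leftHom u) ≫ Spec.map (CommRingCat.ofHom (algebraMap R C)) := by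
    rw [← leftHom_hom u, IsIso.inv_hom_id_assoc]
  rw [e, MorphismProperty.cancel_left_of_respectsIso (P := @SmoothOfRelativeDimension N),
    HasRingHomProperty.Spec_iff (P := @SmoothOfRelativeDimension N)]
  rfl

/-- The generic point of the presented algebra. -/
noncomputable def Cut.genMat1 : Matrix (Fin n) (Fin n) (Pres c.eqs) :=
  mat1 (presEquiv c.eqs (Pres c.eqs) (AlgHom.id R _)).1

/-- The inverse of the generic point. -/
noncomputable def Cut.genMat2 : Matrix (Fin n) (Fin n) (Pres c.eqs) :=
  mat2 (presEquiv c.eqs (Pres c.eqs) (AlgHom.id R _)).1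

theorem Cut.pres_hom_ext {A : Type u} [CommRing A] [Algebra R A] {f g : Pres c.eqs →ₐ[R] A}
    (h1 : c.genMat1.map f = c.genMat1.map g) (h2 : c.genMat2.map f = c.genMat2.map g) : f = g := by
  refine (presEquiv c.eqs A).injective (Subtype.ext (funext fun v => ?_))
  rcases v with ⟨a, b⟩ | ⟨a, b⟩
  · exact congrFun (congrFun h1 a) b
  · exact congrFun (congrFun h2 a) b

theorem Cut.rank_eq {N : ℕ} (hT : c.TangentDim N) {L : Type u} [CommRing L] [Nontrivial L] [Algebra (Pres c.eqs) L]
    [Algebra R L] [IsScalarTower R (Pres c.eqs) L] (f : Pres c.eqs) [IsLocalization.Away f L]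
    [Algebra.IsStandardSmooth R L] : Module.rank L Ω[L⁄R] = N := by
  classical
  obtain ⟨q, hq⟩ := Ideal.exists_maximal L
  letI : Field (L ⧸ q) := Ideal.Quotient.field q
  obtain ⟨J, _, hJ, Ψ, hΨ, hrange⟩ := hT (L ⧸ q)
  obtain ⟨ι₀, σ₀, _, _, ⟨P⟩⟩ := Algebra.IsStandardSmooth.out (R := R) (S := L)
  let b := P.basisKaehler
  haveI : Module.Finite L Ω[L⁄R] := inferInstance
  haveI := Module.Finite.finite_basis b
  haveI := Fintype.ofFinite (↥(Set.range P.map)ᶜ)
  let K := L ⧸ q
  let ι₁ := ↥(Set.range P.map)ᶜ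
  let M := c.genMat1.map (algebraMap (Pres c.eqs) L)
  let M' := c.genMat2.map (algebraMap (Pres c.eqs) L)
  have h1 : M * M' = 1 := by
    rw [← Matrix.map_mul, show c.genMat1 * c.genMat2 = 1 from c.sol12 _, Matrix.map_one _ (map_zero _) (map_one _)]
  have h2 : M' * M = 1 := by
    rw [← Matrix.map_mul, show c.genMat2 * c.genMat1 = 1 from c.sol21 _, Matrix.map_one _ (map_zero _) (map_one _)]
  have hc : ∀ i, c.cond L M i = 0 := fun i => by
    have h := c.nat (Pres c.eqs) L (IsScalarTower.toAlgHom R (Pres c.eqs) L) c.genMat1 i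
    rw [show c.cond (Pres c.eqs) c.genMat1 i = 0 from c.sol_cond _ i, map_zero] at h
    exact h.symm
  let T : Derivation R L K →ₗ[K] Matrix (Fin n) (Fin n) K := tvec M M'
  have hhom : ∀ φ ψ : L →ₐ[R] DualNumber K, M.map φ = M.map ψ → M'.map φ = M'.map ψ → φ = ψ := by
    intro φ ψ e1 e2
    refine AlgHom.coe_ringHom_injective (IsLocalization.ringHom_ext (Submonoid.powers f) ?_)
    have := c.pres_hom_ext (f := φ.comp (IsScalarTower.toAlgHom R (Pres c.eqs) L))
      (g := ψ.comp (IsScalarTower.toAlgHom R (Pres c.eqs) L)) (by rw [Matrix.map_map] at e1; exact e1.trans (Matrix.map_map ..))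
      (by rw [Matrix.map_map] at e2; exact e2.trans (Matrix.map_map ..))
    exact congrArg AlgHom.toRingHom this
  have hTinj : Function.Injective T := by
    rw [← LinearMap.ker_eq_bot, LinearMap.ker_eq_bot']
    intro D hD
    have hs : M.map (fun x => D x) = 0 := by
      have h3 := congrArg (· * M.map (algebraMap L K)) hD
      simp only [T, tvec, LinearMap.coe_mk, AddHom.coe_mk, Matrix.zero_mul] at h3
      rwa [Matrix.mul_assoc, ← Matrix.map_mul, h2, Matrix.map_one _ (map_zero _) (map_one _), Matrix.mul_one] at h3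
    have e1 : M.map (homOfDer D) = M.map (homOfDer (0 : Derivation R L K)) := ext_fst_snd
      (by rw [map_homOfDer_fst, map_homOfDer_fst]) (by rw [map_homOfDer_snd, map_homOfDer_snd, hs]; ext; simp)
    have e2 : M'.map (homOfDer D) = M'.map (homOfDer (0 : Derivation R L K)) := by
      have i1 : M'.map (homOfDer D) * M.map (homOfDer D) = 1 := by
        rw [← Matrix.map_mul, h2, Matrix.map_one _ (map_zero _) (map_one _)]
      have i2 : M.map (homOfDer (0 : Derivation R L K)) * M'.map (homOfDer (0 : Derivation R L K)) = 1 := by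
        rw [← Matrix.map_mul, h1, Matrix.map_one _ (map_zero _) (map_one _)]
      exact left_inv_eq_right_inv i1 (e1 ▸ i2)
    have h4 := hhom _ _ e1 e2
    ext x
    have h5 := congrArg TrivSqZeroExt.snd (AlgHom.congr_fun h4 x)
    simpa [homOfDer_apply] using h5
  have hTrange : LinearMap.range T = LinearMap.range Ψ := by
    ext U
    rw [hrange]
    constructor
    · rintro ⟨D, rfl⟩
      exact isTangent_tvec c h1 h2 hc D
    · intro hU
      obtain ⟨hP1, hP2⟩ := point_inl K h1 h2
      set P1 := ((M.map (algebraMap L K)).map TrivSqZeroExt.inl : Matrix (Fin n) (Fin n) (DualNumber K))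
      set P2 := ((M'.map (algebraMap L K)).map TrivSqZeroExt.inl : Matrix (Fin n) (Fin n) (DualNumber K))
      have hd1 : dualMat U * dualMat (-U) = 1 := by rw [dualMat_mul, add_neg_cancel, dualMat_zero]
      have hd2 : dualMat (-U) * dualMat U = 1 := by rw [dualMat_mul, neg_add_cancel, dualMat_zero]
      have hN1 : (dualMat U * P1) * (P2 * dualMat (-U)) = 1 := by
        rw [Matrix.mul_assoc, ← Matrix.mul_assoc P1, hP1, Matrix.one_mul, hd1]
      have hN2 : (P2 * dualMat (-U)) * (dualMat U * P1) = 1 := by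
        rw [Matrix.mul_assoc, ← Matrix.mul_assoc (dualMat (-U)), hd2, Matrix.one_mul, hP2]
      let ψ : Pres c.eqs →ₐ[R] DualNumber K := (presEquiv c.eqs (DualNumber K)).symm
        ⟨_, c.sol_of hN1 hN2 fun i => c.cond_mul hd1 hd2 hP1 hP2 hU (cond_point c hc) i⟩
      have hψ : presEquiv c.eqs (DualNumber K) ψ =
          ⟨_, c.sol_of hN1 hN2 fun i => c.cond_mul hd1 hd2 hP1 hP2 hU (cond_point c hc) i⟩ :=
        Equiv.apply_symm_apply _ _
      have hψ1 : c.genMat1.map ψ = dualMat U * P1 :=
        Matrix.ext fun a b => congrFun (congrArg Subtype.val hψ) (Sum.inl (a, b))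
      have hψ2 : c.genMat2.map ψ = P2 * dualMat (-U) :=
        Matrix.ext fun a b => congrFun (congrArg Subtype.val hψ) (Sum.inr (a, b))
      have hfst : ∀ x, (ψ x).fst = algebraMap L K (algebraMap (Pres c.eqs) L x) := by
        have hcomp : (TrivSqZeroExt.fstHom R K K).comp ψ =
            (IsScalarTower.toAlgHom R L K).comp (IsScalarTower.toAlgHom R (Pres c.eqs) L) := by
          refine c.pres_hom_ext ?_ ?_
          · rw [AlgHom.coe_comp, ← Matrix.map_map, hψ1]
            show (dualMat U * P1).map TrivSqZeroExt.fst = _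
            rw [map_fst_mul, dualMat_fst, Matrix.one_mul]
            ext; simp [P1, M]
          · rw [AlgHom.coe_comp, ← Matrix.map_map, hψ2]
            show (P2 * dualMat (-U)).map TrivSqZeroExt.fst = _
            rw [map_fst_mul, dualMat_fst, Matrix.mul_one]
            ext; simp [P2, M']
        exact fun x => AlgHom.congr_fun hcomp x
      have hu : ∀ y : Submonoid.powers f, IsUnit (ψ y) := fun y => by
        rw [TrivSqZeroExt.isUnit_iff_isUnit_fst, hfst]
        exact (IsLocalization.map_units L y).map _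
      let Φ : L →ₐ[R] DualNumber K := IsLocalization.liftAlgHom (f := ψ) hu
      have hΦ : ∀ x, Φ (algebraMap (Pres c.eqs) L x) = ψ x := fun x => IsLocalization.lift_eq hu x
      have hΦfst : ∀ y, (Φ y).fst = algebraMap L K y := by
        have : (TrivSqZeroExt.fstHom R K K).comp Φ = IsScalarTower.toAlgHom R L K :=
          AlgHom.coe_ringHom_injective (IsLocalization.ringHom_ext (Submonoid.powers f) (RingHom.ext fun x => by
            show (Φ (algebraMap (Pres c.eqs) L x)).fst = _
            rw [hΦ, hfst]; rfl))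
        exact fun y => AlgHom.congr_fun this y
      refine ⟨derOfHom Φ hΦfst, ?_⟩
      show M.map (fun x => (Φ x).snd) * M'.map (algebraMap L K) = U
      have e : M.map (fun x => (Φ x).snd) = (dualMat U * P1).map TrivSqZeroExt.snd := by
        rw [← hψ1]; ext a b; simp [M, hΦ]
      rw [e, map_snd_mul, dualMat_fst, dualMat_snd, Matrix.one_mul]
      have e0 : P1.map TrivSqZeroExt.snd = 0 := by ext; simp [P1]
      have e1 : P1.map TrivSqZeroExt.fst = M.map (algebraMap L K) := by ext; simp [P1]
      rw [e0, e1, zero_add, Matrix.mul_assoc, ← Matrix.map_mul, h1, Matrix.map_one _ (map_zero _) (map_one _),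
        Matrix.mul_one]
  let Δ : Derivation R L K →ₗ[K] (ι₁ → K) :=
    { toFun := fun D i => D (P.val i.1)
      map_add' := fun D E => rfl
      map_smul' := fun k D => rfl }
  have hb : ∀ (D : Derivation R L K) i, D.liftKaehlerDifferential (b i) = D (P.val i.1) := fun D i => by
    rw [show b i = KaehlerDifferential.D R L (P.val i.1) from P.basisKaehler_apply i,
      Derivation.liftKaehlerDifferential_comp_D]
  have hΔ : Function.Bijective Δ := by
    refine ⟨fun D E h => ?_, fun v => ⟨(b.constr L v).compDer (KaehlerDifferential.D R L), funext fun i => ?_⟩⟩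
    · have h2 : D.liftKaehlerDifferential = E.liftKaehlerDifferential := b.ext fun i => by
        rw [hb, hb]; exact congrFun h i
      ext x
      rw [← D.liftKaehlerDifferential_comp_D, ← E.liftKaehlerDifferential_comp_D, h2]
    · show b.constr L v (KaehlerDifferential.D R L (P.val i.1)) = v i
      rw [← P.basisKaehler_apply i]
      exact Module.Basis.constr_basis b L v i
  let e : (J → K) ≃ₗ[K] (ι₁ → K) :=
    (LinearEquiv.ofInjective Ψ hΨ) ≪≫ₗ (LinearEquiv.ofEq _ _ hTrange.symm) ≪≫ₗ
      (LinearEquiv.ofInjective T hTinj).symm ≪≫ₗ LinearEquiv.ofBijective Δ hΔ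
  have hcard := LinearEquiv.finrank_eq e
  rw [Module.finrank_fintype_fun_eq_card, Module.finrank_fintype_fun_eq_card, hJ] at hcard
  rw [rank_eq_card_basis b, hcard]

include c in
theorem Cut.smoothOfRelativeDimension [Finite κ] (D : QuadGrp.LinRep R (Fin n → R) S G) (h : LiftS S) {N : ℕ}
    (hT : c.TangentDim N) : SmoothOfRelativeDimension N G.hom := by
  obtain ⟨u, hu⟩ := c.bijPts D
  rw [hu.smoothOfRelativeDimension_iff]
  haveI := pres_finitePresentation c.eqs
  haveI : Algebra.Smooth R (Pres c.eqs) := hu.smooth_iff.mp (c.smooth D h)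
  refine ⟨{f | RingHom.IsStandardSmoothOfRelativeDimension N
      ((algebraMap (Pres c.eqs) (Localization.Away f)).comp (algebraMap R (Pres c.eqs)))}, ?_, fun t ht => ht⟩
  by_contra hne
  obtain ⟨p, hp, hle⟩ := Ideal.exists_le_maximal _ hne
  haveI := hp.isPrime
  haveI : Algebra.IsSmoothAt R p := by
    have := (Algebra.smoothLocus_eq_univ (R := R) (A := Pres c.eqs)).symm ▸ Set.mem_univ (⟨p, hp.isPrime⟩ : PrimeSpectrum _)
    exact this
  obtain ⟨f, hf, hstd⟩ := Algebra.IsSmoothAt.exists_notMem_isStandardSmooth R p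
  haveI : Nontrivial (Localization.Away f) := by
    refine ⟨⟨1, 0, fun h0 => hf ?_⟩⟩
    rw [← map_one (algebraMap (Pres c.eqs) (Localization.Away f)), IsLocalization.map_eq_zero_iff (Submonoid.powers f)] at h0
    obtain ⟨⟨_, k, rfl⟩, hk⟩ := h0
    simp only [mul_one] at hk
    exact hp.isPrime.mem_of_pow_mem k (by rw [hk]; exact p.zero_mem)
  refine hf (hle (Ideal.subset_span ?_))
  show RingHom.IsStandardSmoothOfRelativeDimension N _
  rw [← IsScalarTower.algebraMap_eq R (Pres c.eqs) (Localization.Away f),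
    RingHom.isStandardSmoothOfRelativeDimension_algebraMap, Algebra.IsStandardSmoothOfRelativeDimension.iff_of_isStandardSmooth]
  exact c.rank_eq hT f

end Groth.Agent.QRepLib
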