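import Groth.Agent.QRepLib.Orth
import Groth.Agent.QRepLib.Tangent
import Mathlib.LinearAlgebra.Trace
import Mathlib.Algebra.BigOperators.Fin

/-! The tangent spaces of the special orthogonal groups. -/

namespace Groth.Agent.QRepLib

open CategoryTheory AlgebraicGeometry
open scoped TensorProduct
open Groth.Agent.QFormLib

universe u

section Alt

variable {d : ℕ} {K : Type u} [CommRing K]

/-- Pairs of indices in increasing order. -/
abbrev Pairs (d : ℕ) : Type := {p : Fin d × Fin d // p.1 < p.2}

theorem card_pairs (d : ℕ) : Fintype.card (Pairs d) = d * (d - 1) / 2 := by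
  let e : (Σ j : Fin d, Fin j) ≃ Pairs d :=
    { toFun := fun x => ⟨(⟨x.2, x.2.2.trans x.1.2⟩, x.1), x.2.2⟩
      invFun := fun p => ⟨p.1.2, ⟨p.1.1, p.2⟩⟩
      left_inv := fun x => rfl
      right_inv := fun p => rfl }
  rw [← Fintype.card_congr e, Fintype.card_sigma]
  simp only [Fintype.card_fin]
  rw [Fin.sum_univ_eq_sum_range (fun i => i), Finset.sum_range_id]

/-- The upper triangular matrix of a vector. -/
def upperOf (v : Pairs d → K) : Matrix (Fin d) (Fin d) K :=
  Matrix.of fun i j => if h : i < j then v ⟨(i, j), h⟩ else 0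

/-- The alternating matrix of a vector. -/
def altMat (v : Pairs d → K) : Matrix (Fin d) (Fin d) K := upperOf v - (upperOf v).transpose

/-- A matrix is alternating. -/
def IsAltM (β : Matrix (Fin d) (Fin d) K) : Prop := (∀ i, β i i = 0) ∧ ∀ i j, β i j + β j i = 0

theorem isAltM_altMat (v : Pairs d → K) : IsAltM (altMat v) :=
  ⟨fun i => by simp [altMat], fun i j => by simp [altMat]⟩

theorem altMat_upper (v : Pairs d → K) (p : Pairs d) : altMat v p.1.1 p.1.2 = v p := by
  simp [altMat, upperOf, p.2, not_lt.mpr p.2.le]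

theorem exists_altMat {β : Matrix (Fin d) (Fin d) K} (h : IsAltM β) : altMat (fun p => β p.1.1 p.1.2) = β := by
  ext i j
  rcases lt_trichotomy i j with hl | rfl | hl
  · exact altMat_upper _ ⟨(i, j), hl⟩
  · simp [altMat, h.1]
  · simp [altMat, upperOf, hl, not_lt.mpr hl.le]
    linear_combination -(h.2 i j)

theorem altMat_add (v w : Pairs d → K) : altMat (v + w) = altMat v + altMat w := by
  ext i j
  simp only [altMat, upperOf, Matrix.sub_apply, Matrix.transpose_apply, Matrix.of_apply, Matrix.add_apply, Pi.add_apply]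
  split_ifs <;> ring

theorem altMat_smul (k : K) (v : Pairs d → K) : altMat (k • v) = k • altMat v := by
  ext i j
  simp only [altMat, upperOf, Matrix.sub_apply, Matrix.transpose_apply, Matrix.of_apply, Matrix.smul_apply, Pi.smul_apply,
    smul_eq_mul]
  split_ifs <;> ring

theorem trace_symm_mul_alt {S : Matrix (Fin d) (Fin d) K} (hS : S.transpose = S) (v : Pairs d → K) :
    (S * altMat v).trace = 0 := by
  have h : (S * (upperOf v).transpose).trace = (S * upperOf v).trace := by
    rw [← Matrix.trace_transpose, Matrix.transpose_mul, Matrix.transpose_transpose, hS, Matrix.trace_mul_comm]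
  rw [altMat, Matrix.mul_sub, Matrix.trace_sub, h, sub_self]

end Alt

section Intrinsic

variable {K : Type u} [CommRing K] {V : Type u} [AddCommGroup V] [Module K V] {d : ℕ}
  (b : Module.Basis (Fin d) K V) (Q : QuadraticForm K V)

theorem polMat_mul_toMatrix (F : V →ₗ[K] V) (i j : Fin d) :
    (polMat b Q * LinearMap.toMatrix b b F) i j = QuadraticMap.polar Q (b i) (F (b j)) := by
  conv_rhs => rw [← b.sum_repr (F (b j)), ← QuadraticMap.polarBilin_apply_apply, map_sum]
  simp only [Matrix.mul_apply, LinearMap.toMatrix_apply, map_smul, QuadraticMap.polarBilin_apply_apply, smul_eq_mul,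
    polMat, Matrix.of_apply]
  exact Finset.sum_congr rfl fun k _ => mul_comm _ _

theorem isAlt_iff_forall (F : V →ₗ[K] V) :
    IsAltM (polMat b Q * LinearMap.toMatrix b b F) ↔ ∀ x, QuadraticMap.polar Q x (F x) = 0 := by
  simp only [IsAltM, polMat_mul_toMatrix]
  constructor
  · intro h x
    let q : QuadraticForm K V :=
      LinearMap.BilinMap.toQuadraticMap ((QuadraticMap.polarBilin Q).compl₂ F)
    have hq : ∀ y, q y = QuadraticMap.polar Q y (F y) := fun y => rfl
    rw [← hq, ← b.sum_repr x, QuadraticMap.map_sum, Finset.sum_eq_zero, Finset.sum_eq_zero, add_zero]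
    · intro s hs
      induction s using Sym2.inductionOn with
      | hf i j =>
        simp only [QuadraticMap.polarSym2_sym2Mk, Sym2.map_mk]
        rw [QuadraticMap.polar_smul_left, QuadraticMap.polar_smul_right]
        have e : QuadraticMap.polar q (b i) (b j) = 0 := by
          rw [QuadraticMap.polar, hq, hq, hq, map_add, QuadraticMap.polar_add_left, QuadraticMap.polar_add_right,
            QuadraticMap.polar_add_right]
          linear_combination h.2 i j
        rw [e, smul_zero, smul_zero]
    · intro i _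
      rw [QuadraticMap.map_smul, hq, h.1, smul_zero]
  · intro h
    refine ⟨fun i => h (b i), fun i j => ?_⟩
    have h1 := h (b i + b j)
    rw [map_add, QuadraticMap.polar_add_left, QuadraticMap.polar_add_right, QuadraticMap.polar_add_right, h (b i),
      h (b j)] at h1
    linear_combination h1

end Intrinsic

variable {R : Type u} [CommRing R] {n : ℕ} (Q : QuadraticForm R (Fin n → R))

section Dual

variable {K : Type u} [Field K] [Algebra R K]

theorem dualMat_eq (U : Matrix (Fin n) (Fin n) K) :
    dualMat U = 1 + (TrivSqZeroExt.inr 1 : DualNumber K) • U.map TrivSqZeroExt.inl :=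
  ext_fst_snd (by rw [dualMat_fst]; ext i j; simp [Matrix.one_apply, apply_ite TrivSqZeroExt.fst])
    (by rw [dualMat_snd]; ext i j; simp [Matrix.one_apply, apply_ite TrivSqZeroExt.snd])

theorem col_dualMat (U : Matrix (Fin n) (Fin n) K) (i : Fin n) :
    col (R := R) (dualMat U) i = bas R n (DualNumber K) i + (TrivSqZeroExt.inr 1 : DualNumber K) •
      svec (TrivSqZeroExt.inlAlgHom R K K).toRingHom (bas R n K) (fun k => bas R n (DualNumber K) k) (col U i) := by
  rw [svec_col, dualMat_eq]
  simp only [col, Matrix.add_apply, Matrix.smul_apply, smul_eq_mul, add_smul, Finset.sum_add_distrib, Finset.smul_sum,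
    smul_smul]
  congr 1
  rw [Finset.sum_eq_single i (fun k _ hk => by rw [Matrix.one_apply_ne hk, zero_smul]) (by simp),
    Matrix.one_apply_eq, one_smul]

theorem condO_dual_iff (U : Matrix (Fin n) (Fin n) K) :
    (∀ p, condO Q (DualNumber K) (dualMat U) p = 0) ↔ IsAltM (polMat (bas R n K) (QA Q K) * U) := by
  set ιK := TrivSqZeroExt.inlAlgHom R K K
  set e : DualNumber K := TrivSqZeroExt.inr 1
  have hee : e * e = 0 := by simp [e]
  have hcomp := compat_bas Q ιK
  have hβ : ∀ i j, QuadraticMap.polar (QA Q (DualNumber K)) (bas R n (DualNumber K) i)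
      (svec ιK.toRingHom (bas R n K) (fun k => bas R n (DualNumber K) k) (col U j)) =
        ιK ((polMat (bas R n K) (QA Q K) * U) i j) := fun i j => by
    have h1 := hcomp.polar_svec (bas R n K i) (col U j)
    rw [svec_basis] at h1
    rw [h1]
    refine congrArg ιK ?_
    show QuadraticMap.polarBilin (QA Q K) (bas R n K i) (∑ k, U k j • bas R n K k) = _
    simp only [map_sum, map_smul, smul_eq_mul, Matrix.mul_apply]
    exact Finset.sum_congr rfl fun k _ => mul_comm _ _
  have hzero : ∀ x : K, e * ιK x = 0 ↔ x = 0 := fun x => by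
    refine ⟨fun h => ?_, fun h => by rw [h, map_zero, mul_zero]⟩
    have := congrArg TrivSqZeroExt.snd h
    simpa [e, ιK] using this
  have key : ∀ p : Fin n × Fin n, condO Q (DualNumber K) (dualMat U) p =
      e * ιK (if p.1 = p.2 then (polMat (bas R n K) (QA Q K) * U) p.1 p.1
        else (polMat (bas R n K) (QA Q K) * U) p.1 p.2 + (polMat (bas R n K) (QA Q K) * U) p.2 p.1) := fun p => by
    simp only [condO, col_dualMat]
    split_ifs with h
    · rw [QuadraticMap.map_add (QA Q (DualNumber K)), QuadraticMap.map_smul, hee, zero_smul,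
        QuadraticMap.polar_smul_right, hβ, smul_eq_mul]
      ring
    · rw [QuadraticMap.polar_add_left, QuadraticMap.polar_add_right, QuadraticMap.polar_add_right,
        QuadraticMap.polar_smul_right, QuadraticMap.polar_smul_left, QuadraticMap.polar_smul_left,
        QuadraticMap.polar_smul_right, smul_smul, hee, zero_smul, hβ, QuadraticMap.polar_comm _ (svec _ _ _ _), hβ,
        smul_eq_mul, smul_eq_mul, map_add]
      ring
  simp only [key, hzero, Prod.forall, IsAltM]
  constructor
  · intro h
    refine ⟨fun i => by simpa using h i i, fun i j => ?_⟩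
    by_cases hij : i = j
    · subst hij; simpa using congrArg (fun t => t + t) (h i i)
    · simpa [hij] using h i j
  · rintro ⟨h1, h2⟩ i j
    split_ifs
    · exact h1 i
    · exact h2 i j

theorem det_dualMat (U : Matrix (Fin n) (Fin n) K) :
    (dualMat U).det = 1 + TrivSqZeroExt.inr (U.trace) := by
  rw [dualMat_eq, Matrix.det_one_add_smul]
  have h1 : (TrivSqZeroExt.inr 1 : DualNumber K) ^ 2 = 0 := by simp [pow_two]
  rw [h1, mul_zero, add_zero]
  congr 1
  simp only [Matrix.trace, Matrix.diag, Matrix.map_apply, Finset.sum_mul]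
  ext <;> simp [TrivSqZeroExt.fst_sum, TrivSqZeroExt.snd_sum]

end Dual

theorem tangentDim_SOeven {m : ℕ} (hn : n = 2 * m) (hm : 0 < m) (hQ : QuadGrp.IsRegular Q) :
    (cutSOeven Q hn hm hQ).TangentDim (m * (2 * m - 1)) := by
  intro K _ _
  have hP : IsUnit (polMat (bas R n K) (QA Q K)).det :=
    isUnit_det_polMat (bas R n K) (QA Q K) (isRegular_QA Q hQ K)
  refine ⟨Pairs n, inferInstance, ?_, ?_⟩
  · rw [card_pairs, hn, mul_assoc, Nat.mul_div_cancel_left _ two_pos]
  refine ⟨{ toFun := fun v => (polMat (bas R n K) (QA Q K))⁻¹ * altMat v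
            map_add' := fun v w => by rw [altMat_add, Matrix.mul_add]
            map_smul' := fun k v => by rw [altMat_smul, Matrix.mul_smul]; rfl }, fun v w h => ?_, fun U => ?_⟩
  · have h1 := congrArg (fun X => polMat (bas R n K) (QA Q K) * X) h
    simp only [LinearMap.coe_mk, AddHom.coe_mk, ← Matrix.mul_assoc, Matrix.mul_nonsing_inv _ hP, Matrix.one_mul] at h1
    funext p
    rw [← altMat_upper v p, h1, altMat_upper]
  · constructor
    · rintro ⟨v, rfl⟩
      have hO : ∀ p, condO Q (DualNumber K) (dualMat ((polMat (bas R n K) (QA Q K))⁻¹ * altMat v)) p = 0 := by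
        rw [condO_dual_iff, ← Matrix.mul_assoc, Matrix.mul_nonsing_inv _ hP, Matrix.one_mul]
        exact isAltM_altMat v
      set U := (polMat (bas R n K) (QA Q K))⁻¹ * altMat v
      let g : (DualNumber K ⊗[R] (Fin n → R)) ≃ₗ[DualNumber K] _ := linOfMat (R := R) (dualMat U) (dualMat (-U))
        (by rw [dualMat_mul, add_neg_cancel, dualMat_zero]) (by rw [dualMat_mul, neg_add_cancel, dualMat_zero])
      have hgO : g ∈ QuadGrp.O (QA Q (DualNumber K)) := (condO_spec Q _ g).mpr (by rw [mat_linOfMat]; exact hO)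
      let π : DualNumber K →ₐ[R] K := TrivSqZeroExt.fstHom R K K
      have hov : Over' π.toRingHom (bas R n (DualNumber K)) (bas R n K) g.toLinearMap
          (1 : (K ⊗[R] (Fin n → R)) ≃ₗ[K] _).toLinearMap := by
        refine over'_of_basis _ _ _ (bas R n (DualNumber K)) _ _ fun i => ?_
        have hg : mat g.toLinearMap = dualMat U := mat_linOfMat _ _ _ _
        rw [svec_basis, ← col_mat g.toLinearMap i, hg, svec_col]
        show col ((dualMat U).map TrivSqZeroExt.fst) i = bas R n K i
        rw [dualMat_fst]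
        simp [col, Matrix.one_apply]
      have hidem : ∀ x : DualNumber K, IsIdempotentElem x → x = 0 ∨ x = 1 := fun x hx => by
        have h1 : x.fst * x.fst = x.fst := by simpa using congrArg TrivSqZeroExt.fst hx.eq
        have h2 : x.fst * x.snd + x.fst * x.snd = x.snd := by
          simpa [DualNumber.snd_mul, mul_comm] using congrArg TrivSqZeroExt.snd hx.eq
        rcases mul_eq_zero.mp (show x.fst * (x.fst - 1) = 0 by linear_combination h1) with h0 | h0
        · exact Or.inl (TrivSqZeroExt.ext h0 (by simpa [h0] using h2.symm))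
        · rw [sub_eq_zero] at h0
          refine Or.inr (TrivSqZeroExt.ext h0 ?_)
          simpa [h0] using h2
      have hS : g ∈ QuadGrp.SOeven (QA Q (DualNumber K)) :=
        mem_SOeven_of_over π.toRingHom (bas R n (DualNumber K)) (bas R n K) (QA Q (DualNumber K)) (QA Q K)
          (compat_bas Q π) hn hm (isRegular_QA Q hQ _) hidem hgO hov (Subgroup.one_mem _)
      have hmem : g ∈ QuadGrp.sorth Q (DualNumber K) := by
        rw [QuadGrp.sorth, QuadGrp.SO, finrank_bas, if_pos (hn ▸ even_two_mul m)]; exact hS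
      intro i
      have h := ((cutSOeven Q hn hm hQ).spec _ g).mp hmem i
      rwa [mat_linOfMat] at h
    · intro h
      have hO : IsAltM (polMat (bas R n K) (QA Q K) * U) := (condO_dual_iff Q U).mp fun p => h (Sum.inl p)
      refine ⟨fun p => (polMat (bas R n K) (QA Q K) * U) p.1.1 p.1.2, ?_⟩
      show _ * altMat _ = U
      rw [exists_altMat hO, ← Matrix.mul_assoc, Matrix.nonsing_inv_mul _ hP, Matrix.one_mul]

section Odd

variable {K : Type u} [Field K] {V : Type u} [AddCommGroup V] [Module K V] {m : ℕ}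
  (c : Module.Basis (Fin (2 * m + 1)) K V) (Q₀ : QuadraticForm K V)

/-- The general tangent vector in a split basis. -/
noncomputable def oddU (x : Pairs (2 * m) ⊕ Fin (2 * m) → K) : Matrix (Fin (2 * m + 1)) (Fin (2 * m + 1)) K :=
  let P' := polMat (fun j : Fin (2 * m) => c j.succ) Q₀
  let r : Fin (2 * m) → K := fun j => x (Sum.inr j)
  Matrix.of fun i j => Fin.cases (Fin.cases 0 r j)
    (fun i' => Fin.cases ((P'⁻¹).mulVec ((-(2 * Q₀ (c 0))) • r) i') ((P'⁻¹ * altMat (fun p => x (Sum.inl p))) i') j) i

/-- The general tangent vector, linearly in the parameters. -/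
noncomputable def oddPsi : (Pairs (2 * m) ⊕ Fin (2 * m) → K) →ₗ[K] Matrix (Fin (2 * m + 1)) (Fin (2 * m + 1)) K where
  toFun := oddU c Q₀
  map_add' x y := by
    ext i j
    refine Fin.cases ?_ (fun i => ?_) i <;> refine Fin.cases ?_ (fun j => ?_) j <;>
      simp [oddU, Matrix.mulVec, dotProduct, Matrix.mul_apply, ← Finset.sum_add_distrib]
    · rw [← neg_add, ← Finset.sum_add_distrib]
      exact congrArg Neg.neg (Finset.sum_congr rfl fun k _ => by ring)
    · exact Finset.sum_congr rfl fun k _ => by
        rw [show (fun p => x (Sum.inl p) + y (Sum.inl p)) = (fun p => x (Sum.inl p)) + fun p => y (Sum.inl p) from rfl,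
          altMat_add, Matrix.add_apply, mul_add]
  map_smul' k x := by
    ext i j
    refine Fin.cases ?_ (fun i => ?_) i <;> refine Fin.cases ?_ (fun j => ?_) j <;>
      simp [oddU, Matrix.mulVec, dotProduct, Matrix.mul_apply, Finset.mul_sum]
    · exact Finset.sum_congr rfl fun l _ => by ring
    · exact Finset.sum_congr rfl fun l _ => by
        rw [show (fun p => k * x (Sum.inl p)) = k • fun p => x (Sum.inl p) from rfl, altMat_smul, Matrix.smul_apply,
          smul_eq_mul]
        ring

variable {c Q₀} (horth : ∀ j : Fin (2 * m), QuadraticMap.polar Q₀ (c 0) (c j.succ) = 0) (ha : Q₀ (c 0) ≠ 0)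
  (hP' : IsUnit (polMat (fun j : Fin (2 * m) => c j.succ) Q₀).det)

include horth in
theorem polMat_block_zero (U : Matrix (Fin (2 * m + 1)) (Fin (2 * m + 1)) K) (j : Fin (2 * m + 1)) :
    (polMat c Q₀ * U) 0 j = 2 * Q₀ (c 0) * U 0 j := by
  rw [Matrix.mul_apply, Fin.sum_univ_succ]
  simp [polMat, horth, two_mul]

include horth in
theorem polMat_block_succ (U : Matrix (Fin (2 * m + 1)) (Fin (2 * m + 1)) K) (i : Fin (2 * m)) (j : Fin (2 * m + 1)) :
    (polMat c Q₀ * U) i.succ j = (polMat (fun j : Fin (2 * m) => c j.succ) Q₀).mulVec (fun k => U k.succ j) i := by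
  rw [Matrix.mul_apply, Fin.sum_univ_succ]
  simp [polMat, Matrix.mulVec, dotProduct, QuadraticMap.polar_comm Q₀ (c i.succ) (c 0), horth]

include hP' in
theorem oddPsi_injective : Function.Injective (oddPsi c Q₀) := by
  intro x y h
  funext s
  rcases s with p | j
  · have h1 : (polMat (fun j : Fin (2 * m) => c j.succ) Q₀)⁻¹ * altMat (fun p => x (Sum.inl p)) =
        (polMat (fun j : Fin (2 * m) => c j.succ) Q₀)⁻¹ * altMat (fun p => y (Sum.inl p)) := by
      ext i j
      simpa [oddPsi, oddU] using congrFun (congrFun h i.succ) j.succ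
    have h2 := congrArg (fun X => polMat (fun j : Fin (2 * m) => c j.succ) Q₀ * X) h1
    simp only [← Matrix.mul_assoc, Matrix.mul_nonsing_inv _ hP', Matrix.one_mul] at h2
    rw [← altMat_upper (fun p => x (Sum.inl p)) p, h2, altMat_upper]
  · simpa [oddPsi, oddU] using congrFun (congrFun h 0) j.succ

include horth ha hP' in
theorem mem_range_oddPsi_iff (U : Matrix (Fin (2 * m + 1)) (Fin (2 * m + 1)) K) :
    U ∈ LinearMap.range (oddPsi c Q₀) ↔ IsAltM (polMat c Q₀ * U) ∧ U.trace = 0 := by
  set P' := polMat (fun j : Fin (2 * m) => c j.succ) Q₀ with hP'def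
  have hPsymm : P'⁻¹.transpose = P'⁻¹ := by
    rw [Matrix.transpose_nonsing_inv]
    congr 1
    ext i j
    exact QuadraticMap.polar_comm _ _ _
  constructor
  · rintro ⟨x, rfl⟩
    set v := fun p => x (Sum.inl p)
    set U := oddPsi c Q₀ x with hU
    have e00 : U 0 0 = 0 := by simp [hU, oddPsi, oddU]
    have e0s : ∀ j : Fin (2 * m), U 0 j.succ = x (Sum.inr j) := fun j => by simp [hU, oddPsi, oddU]
    have b00 : (polMat c Q₀ * U) 0 0 = 0 := by rw [polMat_block_zero horth, e00, mul_zero]
    have b0s : ∀ j, (polMat c Q₀ * U) 0 j.succ = 2 * Q₀ (c 0) * x (Sum.inr j) := fun j => by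
      rw [polMat_block_zero horth, e0s]
    have bs0 : ∀ i, (polMat c Q₀ * U) i.succ 0 = -(2 * Q₀ (c 0)) * x (Sum.inr i) := fun i => by
      rw [polMat_block_succ horth, ← hP'def]
      have : (fun k : Fin (2 * m) => U k.succ 0) = P'⁻¹.mulVec ((-(2 * Q₀ (c 0))) • fun j => x (Sum.inr j)) := by
        funext k; simp [hU, oddPsi, oddU, P']
      rw [this, Matrix.mulVec_mulVec, Matrix.mul_nonsing_inv _ hP', Matrix.one_mulVec]
      simp
    have bss : ∀ i j, (polMat c Q₀ * U) i.succ j.succ = altMat v i j := fun i j => by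
      rw [polMat_block_succ horth, ← hP'def]
      have : (fun k : Fin (2 * m) => U k.succ j.succ) = fun k => (P'⁻¹ * altMat v) k j := by
        funext k; simp [hU, oddPsi, oddU, P', v]
      rw [this]
      show (P' * (P'⁻¹ * altMat v)) i j = _
      rw [← Matrix.mul_assoc, Matrix.mul_nonsing_inv _ hP', Matrix.one_mul]
    refine ⟨⟨fun i => ?_, fun i j => ?_⟩, ?_⟩
    · refine Fin.cases b00 (fun i => ?_) i
      rw [bss]; exact (isAltM_altMat v).1 i
    · refine Fin.cases ?_ (fun i => ?_) i <;> refine Fin.cases ?_ (fun j => ?_) j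
      · rw [b00, add_zero]
      · rw [b0s, bs0]; ring
      · rw [b0s, bs0]; ring
      · rw [bss, bss]; exact (isAltM_altMat v).2 i j
    · rw [Matrix.trace, Fin.sum_univ_succ]
      simp only [Matrix.diag_apply, e00, zero_add]
      have hdiag : ∀ i : Fin (2 * m), U i.succ i.succ = (P'⁻¹ * altMat v) i i := fun i => by
        simp [hU, oddPsi, oddU, P', v]
      simp only [hdiag]
      exact trace_symm_mul_alt hPsymm v
  · rintro ⟨⟨hd, hs⟩, htr⟩
    let β' : Matrix (Fin (2 * m)) (Fin (2 * m)) K := Matrix.of fun i j => (polMat c Q₀ * U) i.succ j.succ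
    have hβ' : IsAltM β' := ⟨fun i => hd i.succ, fun i j => hs i.succ j.succ⟩
    have hsub : P' * Matrix.of (fun i j : Fin (2 * m) => U i.succ j.succ) = β' := by
      ext i j
      show _ = (polMat c Q₀ * U) i.succ j.succ
      rw [polMat_block_succ horth]
      rfl
    have hUss : Matrix.of (fun i j : Fin (2 * m) => U i.succ j.succ) = P'⁻¹ * β' := by
      rw [← hsub, ← Matrix.mul_assoc, Matrix.nonsing_inv_mul _ hP', Matrix.one_mul]
    have h00 : U 0 0 = 0 := by
      rw [Matrix.trace, Fin.sum_univ_succ] at htr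
      have : ∑ i : Fin (2 * m), U.diag i.succ = 0 := by
        have h := trace_symm_mul_alt hPsymm (fun p => β' p.1.1 p.1.2)
        rw [exists_altMat hβ', ← hUss] at h
        exact h
      rwa [this, add_zero] at htr
    refine ⟨Sum.elim (fun p => β' p.1.1 p.1.2) (fun j => U 0 j.succ), ?_⟩
    ext i j
    refine Fin.cases ?_ (fun i => ?_) i <;> refine Fin.cases ?_ (fun j => ?_) j
    · simp [oddPsi, oddU, h00]
    · simp [oddPsi, oddU]
    · have h1 : P'.mulVec (fun k => U k.succ 0) = (-(2 * Q₀ (c 0))) • fun j => U 0 j.succ := by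
        funext k
        have h2 := hs k.succ 0
        rw [polMat_block_zero horth, polMat_block_succ horth, ← hP'def] at h2
        simp only [Pi.smul_apply, smul_eq_mul]
        linear_combination h2
      show P'⁻¹.mulVec ((-(2 * Q₀ (c 0))) • fun j => U 0 j.succ) i = U i.succ 0
      rw [← h1, Matrix.mulVec_mulVec, Matrix.nonsing_inv_mul _ hP', Matrix.one_mulVec]
    · show (P'⁻¹ * altMat fun p => β' p.1.1 p.1.2) i j = U i.succ j.succ
      rw [exists_altMat hβ', ← hUss]
      rfl

end Odd

theorem tangentDim_SOodd {m : ℕ} (hn : n = 2 * m + 1)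
    (hQ : IsUnit (QuadGrp.halfDisc (Pi.basisFun R (Fin n)) (LinearEquiv.refl R R) Q)) :
    (cutSOodd Q ⟨m, hn⟩).TangentDim (m * (2 * m + 1)) := by
  subst hn
  intro K _ _
  obtain ⟨c, horth, ha, hP'⟩ := exists_split_basis (QA Q K) (bas R _ K) (isUnit_halfDisc_QA Q hQ K)
  refine ⟨Pairs (2 * m) ⊕ Fin (2 * m), inferInstance, ?_, ?_⟩
  · rw [Fintype.card_sum, card_pairs, Fintype.card_fin, mul_assoc, Nat.mul_div_cancel_left _ two_pos]
    rcases m with _ | m
    · rfl
    · rw [show 2 * (m + 1) - 1 = 2 * m + 1 by omega]; ring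
  let T : Matrix (Fin (2 * m + 1)) (Fin (2 * m + 1)) K ≃ₗ[K] Matrix (Fin (2 * m + 1)) (Fin (2 * m + 1)) K :=
    (Matrix.toLin c c) ≪≫ₗ (LinearMap.toMatrix (bas R _ K) (bas R _ K))
  refine ⟨T.toLinearMap ∘ₗ oddPsi c (QA Q K), T.injective.comp (oddPsi_injective hP'), fun U => ?_⟩
  have h1 : ∀ U, (cutSOodd Q ⟨m, rfl⟩).IsTangent U ↔
      IsAltM (polMat (bas R _ K) (QA Q K) * U) ∧ U.trace = 0 := fun U => by
    rw [Cut.IsTangent, Sum.forall, ← condO_dual_iff]
    refine and_congr Iff.rfl ⟨fun h => ?_, fun h _ => ?_⟩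
    · have h2 := h ()
      simp only [cutSOodd, condSO', Sum.elim_inr, det_dualMat, add_sub_cancel_left] at h2
      exact TrivSqZeroExt.inr_injective (by rw [h2, TrivSqZeroExt.inr_zero])
    · simp only [cutSOodd, condSO', Sum.elim_inr, det_dualMat, add_sub_cancel_left, h, TrivSqZeroExt.inr_zero]
  rw [h1]
  have hT : ∀ X, IsAltM (polMat c (QA Q K) * X) ∧ X.trace = 0 ↔
      IsAltM (polMat (bas R _ K) (QA Q K) * T X) ∧ (T X).trace = 0 := fun X => by
    obtain ⟨F, rfl⟩ := (LinearMap.toMatrix c c).surjective X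
    have e : T (LinearMap.toMatrix c c F) = LinearMap.toMatrix (bas R _ K) (bas R _ K) F := by
      simp [T]
    rw [e, isAlt_iff_forall, isAlt_iff_forall, ← LinearMap.trace_eq_matrix_trace,
      ← LinearMap.trace_eq_matrix_trace]
  rw [LinearMap.range_comp, Submodule.mem_map_equiv, mem_range_oddPsi_iff horth ha.ne_zero hP', hT, T.apply_symm_apply]

end Groth.Agent.QRepLib
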