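import Mathlib.RingTheory.Smooth.Locus
import Mathlib.RingTheory.Localization.AtPrime.Basic

/-! Presented algebras and smoothness from lifting over local rings. -/

namespace Groth.Agent.QRepLib

open MvPolynomial

universe u

variable {R : Type u} [CommRing R] {σ ι : Type} (e : ι → MvPolynomial σ R)

/-- The algebra presented by the equations `e`. -/
abbrev Pres : Type u := MvPolynomial σ R ⧸ Ideal.span (Set.range e)

/-- The solutions of the equations in `A`. -/
abbrev Sol (A : Type u) [CommRing A] [Algebra R A] : Type u := {x : σ → A // ∀ i, aeval x (e i) = 0}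

/-- Homomorphisms from the presented algebra are solutions. -/
noncomputable def presEquiv (A : Type u) [CommRing A] [Algebra R A] : (Pres e →ₐ[R] A) ≃ Sol e A where
  toFun φ := ⟨fun s => φ (Ideal.Quotient.mkₐ R _ (X s)), fun i => by
    have h : aeval (fun s => φ (Ideal.Quotient.mkₐ R _ (X s))) = φ.comp (Ideal.Quotient.mkₐ R (Ideal.span (Set.range e))) :=
      MvPolynomial.algHom_ext fun s => by simp
    rw [h, AlgHom.comp_apply, Ideal.Quotient.mkₐ_eq_mk, Ideal.Quotient.eq_zero_iff_mem.mpr
      (Ideal.subset_span (Set.mem_range_self i) : e i ∈ Ideal.span (Set.range e)), map_zero]⟩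
  invFun x := Ideal.Quotient.liftₐ _ (aeval x.1) fun a ha => by
    have hle : Ideal.span (Set.range e) ≤ RingHom.ker (aeval (R := R) x.1) := Ideal.span_le.mpr (by
      rintro _ ⟨i, rfl⟩; exact x.2 i)
    exact hle ha
  left_inv φ := Ideal.Quotient.algHom_ext _ (MvPolynomial.algHom_ext fun s => by
    exact MvPolynomial.aeval_X _ s)
  right_inv x := Subtype.ext (funext fun s => by exact MvPolynomial.aeval_X _ s)

theorem presEquiv_comp {A B : Type u} [CommRing A] [Algebra R A] [CommRing B] [Algebra R B] (φ : A →ₐ[R] B)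
    (ψ : Pres e →ₐ[R] A) : (presEquiv e B (φ.comp ψ)).1 = fun s => φ ((presEquiv e A ψ).1 s) := rfl

theorem pres_finitePresentation [Finite σ] [Finite ι] : Algebra.FinitePresentation R (Pres e) :=
  Algebra.FinitePresentation.quotient (Submodule.fg_span (Set.finite_range e))

variable (R) in
/-- Lifting points along square zero surjections of local rings. -/
def LocalLift (C : Type u) [CommRing C] [Algebra R C] : Prop :=
  ∀ (A B : Type u) [CommRing A] [Algebra R A] [CommRing B] [Algebra R B] [IsLocalRing A] [IsLocalRing B]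
    (π : A →ₐ[R] B), Function.Surjective π → (∀ a b, π a = 0 → π b = 0 → a * b = 0) →
    ∀ f : C →ₐ[R] B, ∃ g : C →ₐ[R] A, π.comp g = f

theorem formallySmooth_of_localLift {C : Type u} [CommRing C] [Algebra R C] [Algebra.FinitePresentation R C]
    (h : LocalLift R C) : Algebra.FormallySmooth R C := by
  rw [← Algebra.smoothLocus_eq_univ_iff]
  refine Set.eq_univ_of_forall fun p => ?_
  show Algebra.FormallySmooth R (Localization.AtPrime p.asIdeal)
  obtain ⟨ν, π₀, hπ₀⟩ := Algebra.FiniteType.iff_quotient_mvPolynomial''.mp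
    (inferInstance : Algebra.FiniteType R C)
  let P := MvPolynomial (Fin ν) R
  let q : Ideal P := p.asIdeal.comap π₀.toRingHom
  haveI : q.IsPrime := Ideal.IsPrime.comap π₀.toRingHom
  let Pq := Localization.AtPrime q
  let Cp := Localization.AtPrime p.asIdeal
  haveI : Algebra.FormallySmooth P Pq := Algebra.FormallySmooth.of_isLocalization q.primeCompl
  haveI : Algebra.FormallySmooth R Pq := Algebra.FormallySmooth.comp R P Pq
  let π' : Pq →ₐ[R] Cp :=
    { Localization.localRingHom q p.asIdeal π₀.toRingHom rfl with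
      commutes' := fun r => by
        show Localization.localRingHom q p.asIdeal π₀.toRingHom rfl (algebraMap R Pq r) = _
        rw [IsScalarTower.algebraMap_apply R P Pq, Localization.localRingHom_to_map,
          IsScalarTower.algebraMap_apply R C Cp]
        exact congrArg _ (π₀.commutes r) }
  have hπ' : Function.Surjective π' := fun y => by
    obtain ⟨c, s, rfl⟩ := IsLocalization.exists_mk'_eq p.asIdeal.primeCompl y
    obtain ⟨a, rfl⟩ := hπ₀ c
    obtain ⟨s, hs⟩ := s
    obtain ⟨t, rfl⟩ := hπ₀ s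
    exact ⟨IsLocalization.mk' Pq a ⟨t, hs⟩, Localization.localRingHom_mk' q p.asIdeal π₀.toRingHom rfl a ⟨t, hs⟩⟩
  let K : Ideal Pq := RingHom.ker π'.toRingHom
  have hK : K ≠ ⊤ := RingHom.ker_ne_top _
  haveI : Nontrivial (Pq ⧸ K ^ 2) :=
    Ideal.Quotient.nontrivial_iff.mpr fun he => hK (top_unique (he ▸ Ideal.pow_le_self two_ne_zero))
  haveI : IsLocalRing (Pq ⧸ K ^ 2) := IsLocalRing.of_surjective' (Ideal.Quotient.mk _) Ideal.Quotient.mk_surjective
  have hsurj : Function.Surjective π'.kerSquareLift := fun y => by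
    obtain ⟨a, ha⟩ := hπ' y
    exact ⟨Ideal.Quotient.mk _ a, ha⟩
  obtain ⟨g, hg⟩ := h (Pq ⧸ K ^ 2) Cp π'.kerSquareLift hsurj (fun a b ha hb => by
    obtain ⟨a, rfl⟩ := Ideal.Quotient.mk_surjective a
    obtain ⟨b, rfl⟩ := Ideal.Quotient.mk_surjective b
    rw [← map_mul, Ideal.Quotient.eq_zero_iff_mem, pow_two]
    exact Ideal.mul_mem_mul ha hb) (IsScalarTower.toAlgHom R C Cp)
  haveI : IsLocalHom π'.kerSquareLift.toRingHom := IsLocalHom.of_surjective _ hsurj
  have hu : ∀ s : p.asIdeal.primeCompl, IsUnit (g s) := fun s => by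
    refine isUnit_of_map_unit π'.kerSquareLift.toRingHom _ ?_
    show IsUnit (π'.kerSquareLift.comp g (s : C))
    rw [hg]
    exact IsLocalization.map_units Cp s
  refine Algebra.FormallySmooth.of_split π' (IsLocalization.liftAlgHom (f := g) hu)
    (AlgHom.coe_ringHom_injective (IsLocalization.ringHom_ext p.asIdeal.primeCompl (RingHom.ext fun c => ?_)))
  show π'.kerSquareLift (IsLocalization.lift hu (algebraMap C Cp c)) = algebraMap C Cp c
  rw [IsLocalization.lift_eq]
  exact DFunLike.congr_fun hg c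

theorem exists_lift_of_formallySmooth {C : Type u} [CommRing C] [Algebra R C] [Algebra.FormallySmooth R C]
    {A B : Type u} [CommRing A] [Algebra R A] [CommRing B] [Algebra R B] (π : A →ₐ[R] B) (hπ : Function.Surjective π)
    (h0 : ∀ a b, π a = 0 → π b = 0 → a * b = 0) (f : C →ₐ[R] B) : ∃ g : C →ₐ[R] A, π.comp g = f := by
  have h2 : (RingHom.ker π.toRingHom) ^ 2 = ⊥ := by
    rw [pow_two, eq_bot_iff, Ideal.mul_le]
    exact fun a ha b hb => h0 a b ha hb
  refine ⟨Algebra.FormallySmooth.liftOfSurjective f π hπ ⟨2, h2⟩, ?_⟩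
  exact Algebra.FormallySmooth.comp_liftOfSurjective f π hπ ⟨2, h2⟩

end Groth.Agent.QRepLib
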