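import Groth.Agent.QRepLib.Affine
import Groth.Agent.QRepLib.Lifting
import Mathlib.LinearAlgebra.Matrix.ToLin
import Mathlib.LinearAlgebra.TensorProduct.Basis

/-! Group schemes of linear automorphisms cut out by polynomial conditions. -/

namespace Groth.Agent.QRepLib

open CategoryTheory AlgebraicGeometry MvPolynomial MonObj
open scoped TensorProduct

universe u

variable {R : Type u} [CommRing R] {n : ℕ}

variable (R n) in
/-- The standard basis of `A ⊗ Rⁿ`. -/
noncomputable abbrev bas (A : Type u) [CommRing A] [Algebra R A] : Module.Basis (Fin n) A (A ⊗[R] (Fin n → R)) :=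
  (Pi.basisFun R (Fin n)).baseChange A

theorem bas_repr_rTensor {A B : Type u} [CommRing A] [Algebra R A] [CommRing B] [Algebra R B] (φ : A →ₐ[R] B)
    (v : A ⊗[R] (Fin n → R)) (k : Fin n) :
    (bas R n B).repr (LinearMap.rTensor (Fin n → R) φ.toLinearMap v) k = φ ((bas R n A).repr v k) := by
  induction v using TensorProduct.induction_on with
  | zero => simp
  | tmul a m => simp [Module.Basis.baseChange_repr_tmul, Algebra.smul_def, map_mul]
  | add x y hx hy => simp [map_add, hx, hy]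

/-- The matrix of an endomorphism of `A ⊗ Rⁿ`. -/
noncomputable def mat {A : Type u} [CommRing A] [Algebra R A] (g : A ⊗[R] (Fin n → R) →ₗ[A] A ⊗[R] (Fin n → R)) :
    Matrix (Fin n) (Fin n) A :=
  LinearMap.toMatrix (bas R n A) (bas R n A) g

/-- A family of subgroups of linear automorphisms cut out by polynomial conditions on the matrix. -/
structure Cut (S : ∀ (A : Type u) [CommRing A] [Algebra R A],
    Subgroup ((A ⊗[R] (Fin n → R)) ≃ₗ[A] (A ⊗[R] (Fin n → R)))) (κ : Type) where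
  /-- the conditions -/
  cond : ∀ (A : Type u) [CommRing A] [Algebra R A], Matrix (Fin n) (Fin n) A → κ → A
  /-- naturality -/
  nat : ∀ (A B : Type u) [CommRing A] [Algebra R A] [CommRing B] [Algebra R B] (φ : A →ₐ[R] B)
    (M : Matrix (Fin n) (Fin n) A) (i : κ), φ (cond A M i) = cond B (M.map φ) i
  /-- the conditions cut out the family -/
  spec : ∀ (A : Type u) [CommRing A] [Algebra R A] (g : (A ⊗[R] (Fin n → R)) ≃ₗ[A] (A ⊗[R] (Fin n → R))),
    g ∈ S A ↔ ∀ i, cond A (mat g.toLinearMap) i = 0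

variable {S : ∀ (A : Type u) [CommRing A] [Algebra R A],
    Subgroup ((A ⊗[R] (Fin n → R)) ≃ₗ[A] (A ⊗[R] (Fin n → R)))} {κ : Type} (c : Cut S κ)

/-- The variables: a matrix and its inverse. -/
abbrev Var (n : ℕ) : Type := (Fin n × Fin n) ⊕ (Fin n × Fin n)

/-- The matrix read in the first variables. -/
def mat1 {A : Type u} (x : Var n → A) : Matrix (Fin n) (Fin n) A := Matrix.of fun i j => x (Sum.inl (i, j))

/-- The matrix read in the second variables. -/
def mat2 {A : Type u} (x : Var n → A) : Matrix (Fin n) (Fin n) A := Matrix.of fun i j => x (Sum.inr (i, j))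

/-- All the conditions. -/
noncomputable def Cut.all (A : Type u) [CommRing A] [Algebra R A] (x : Var n → A) :
    ((Fin n × Fin n) ⊕ (Fin n × Fin n)) ⊕ κ → A :=
  Sum.elim (Sum.elim (fun p => (mat1 x * mat2 x - 1) p.1 p.2) (fun p => (mat2 x * mat1 x - 1) p.1 p.2))
    (c.cond A (mat1 x))

/-- The equations. -/
noncomputable def Cut.eqs (i : ((Fin n × Fin n) ⊕ (Fin n × Fin n)) ⊕ κ) : MvPolynomial (Var n) R :=
  c.all (MvPolynomial (Var n) R) X i

theorem Cut.aeval_eqs {A : Type u} [CommRing A] [Algebra R A] (x : Var n → A)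
    (i : ((Fin n × Fin n) ⊕ (Fin n × Fin n)) ⊕ κ) : aeval x (c.eqs i) = c.all A x i := by
  have h1 : (mat1 (X : Var n → MvPolynomial (Var n) R)).map (aeval x) = mat1 x := by ext; simp [mat1]
  have h2 : (mat2 (X : Var n → MvPolynomial (Var n) R)).map (aeval x) = mat2 x := by ext; simp [mat2]
  rcases i with (⟨a, b⟩ | ⟨a, b⟩) | i
  · show aeval x ((mat1 X * mat2 X - 1 : Matrix (Fin n) (Fin n) (MvPolynomial (Var n) R)) a b) = _
    rw [Matrix.sub_apply, map_sub, ← Matrix.map_apply (f := aeval x), ← Matrix.map_apply (f := aeval x),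
      Matrix.map_mul, Matrix.map_one _ (map_zero _) (map_one _), h1, h2]
    rfl
  · show aeval x ((mat2 X * mat1 X - 1 : Matrix (Fin n) (Fin n) (MvPolynomial (Var n) R)) a b) = _
    rw [Matrix.sub_apply, map_sub, ← Matrix.map_apply (f := aeval x), ← Matrix.map_apply (f := aeval x),
      Matrix.map_mul, Matrix.map_one _ (map_zero _) (map_one _), h1, h2]
    rfl
  · show aeval x (c.cond _ (mat1 X) i) = c.cond A (mat1 x) i
    rw [c.nat _ _ (aeval x), h1]

theorem mat_mul {A : Type u} [CommRing A] [Algebra R A] (f g : A ⊗[R] (Fin n → R) →ₗ[A] A ⊗[R] (Fin n → R)) :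
    mat f * mat g = mat (f ∘ₗ g) := (LinearMap.toMatrix_comp _ _ _ f g).symm

theorem mat_id {A : Type u} [CommRing A] [Algebra R A] :
    mat (LinearMap.id : A ⊗[R] (Fin n → R) →ₗ[A] A ⊗[R] (Fin n → R)) = 1 := LinearMap.toMatrix_id _

theorem Cut.sol12 {A : Type u} [CommRing A] [Algebra R A] (x : Sol c.eqs A) : mat1 x.1 * mat2 x.1 = 1 :=
  sub_eq_zero.mp (Matrix.ext fun a b => (c.aeval_eqs x.1 (Sum.inl (Sum.inl (a, b)))).symm.trans (x.2 _))

theorem Cut.sol21 {A : Type u} [CommRing A] [Algebra R A] (x : Sol c.eqs A) : mat2 x.1 * mat1 x.1 = 1 :=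
  sub_eq_zero.mp (Matrix.ext fun a b => (c.aeval_eqs x.1 (Sum.inl (Sum.inr (a, b)))).symm.trans (x.2 _))

theorem Cut.sol_cond {A : Type u} [CommRing A] [Algebra R A] (x : Sol c.eqs A) (i : κ) : c.cond A (mat1 x.1) i = 0 :=
  (c.aeval_eqs x.1 (Sum.inr i)).symm.trans (x.2 _)

/-- The equivalence given by an invertible pair of matrices. -/
noncomputable def linOfMat {A : Type u} [CommRing A] [Algebra R A] (M N : Matrix (Fin n) (Fin n) A) (h1 : M * N = 1)
    (h2 : N * M = 1) : (A ⊗[R] (Fin n → R)) ≃ₗ[A] (A ⊗[R] (Fin n → R)) :=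
  LinearEquiv.ofLinear (Matrix.toLin (bas R n A) (bas R n A) M) (Matrix.toLin (bas R n A) (bas R n A) N)
    (by rw [← Matrix.toLin_mul, h1, Matrix.toLin_one]) (by rw [← Matrix.toLin_mul, h2, Matrix.toLin_one])

theorem mat_linOfMat {A : Type u} [CommRing A] [Algebra R A] (M N : Matrix (Fin n) (Fin n) A) (h1 : M * N = 1)
    (h2 : N * M = 1) : mat (linOfMat (R := R) M N h1 h2).toLinearMap = M :=
  LinearMap.toMatrix_toLin _ _ _

theorem mat_symm_linOfMat {A : Type u} [CommRing A] [Algebra R A] (M N : Matrix (Fin n) (Fin n) A) (h1 : M * N = 1)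
    (h2 : N * M = 1) : mat (linOfMat (R := R) M N h1 h2).symm.toLinearMap = N :=
  LinearMap.toMatrix_toLin _ _ _

theorem eq_of_mat' {A : Type u} [CommRing A] [Algebra R A] {g g' : (A ⊗[R] (Fin n → R)) ≃ₗ[A] (A ⊗[R] (Fin n → R))}
    (h : mat g.toLinearMap = mat g'.toLinearMap) : g = g' :=
  LinearEquiv.toLinearMap_injective ((LinearMap.toMatrix _ _).injective h)

/-- The tuple of coordinates of a member. -/
noncomputable def coordsOf {A : Type u} [CommRing A] [Algebra R A]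
    (g : (A ⊗[R] (Fin n → R)) ≃ₗ[A] (A ⊗[R] (Fin n → R))) : Var n → A :=
  Sum.elim (fun p => mat g.toLinearMap p.1 p.2) (fun p => mat g.symm.toLinearMap p.1 p.2)

theorem Cut.coordsOf_sol {A : Type u} [CommRing A] [Algebra R A] (g : ↥(S A)) :
    ∀ i, aeval (coordsOf g.1) (c.eqs i) = 0 := fun i => by
  rw [c.aeval_eqs]
  rcases i with (⟨a, b⟩ | ⟨a, b⟩) | i
  · show (mat g.1.toLinearMap * mat g.1.symm.toLinearMap - 1) a b = 0
    rw [mat_mul, LinearEquiv.comp_symm, mat_id, sub_self]; rfl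
  · show (mat g.1.symm.toLinearMap * mat g.1.toLinearMap - 1) a b = 0
    rw [mat_mul, LinearEquiv.symm_comp, mat_id, sub_self]; rfl
  · exact (c.spec A g.1).mp g.2 i

theorem coordsOf_linOfMat {A : Type u} [CommRing A] [Algebra R A] (x : Var n → A) (h1 : mat1 x * mat2 x = 1)
    (h2 : mat2 x * mat1 x = 1) : coordsOf (linOfMat (R := R) (mat1 x) (mat2 x) h1 h2) = x := by
  funext v
  rcases v with ⟨a, b⟩ | ⟨a, b⟩ <;>
    simp only [coordsOf, Sum.elim_inl, Sum.elim_inr, mat_linOfMat, mat_symm_linOfMat] <;> rfl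

theorem mat1_coordsOf {A : Type u} [CommRing A] [Algebra R A]
    (g : (A ⊗[R] (Fin n → R)) ≃ₗ[A] (A ⊗[R] (Fin n → R))) : mat1 (coordsOf g) = mat g.toLinearMap :=
  Matrix.ext fun _ _ => rfl

theorem linOfMat_coordsOf {A : Type u} [CommRing A] [Algebra R A]
    (g : (A ⊗[R] (Fin n → R)) ≃ₗ[A] (A ⊗[R] (Fin n → R))) (h1 : mat1 (coordsOf g) * mat2 (coordsOf g) = 1)
    (h2 : mat2 (coordsOf g) * mat1 (coordsOf g) = 1) :
    mat (linOfMat (R := R) (mat1 (coordsOf g)) (mat2 (coordsOf g)) h1 h2).toLinearMap = mat g.toLinearMap := by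
  rw [mat_linOfMat, mat1_coordsOf]

theorem Cut.linOfMat_mem {A : Type u} [CommRing A] [Algebra R A] (x : Sol c.eqs A) :
    linOfMat (R := R) (mat1 x.1) (mat2 x.1) (c.sol12 x) (c.sol21 x) ∈ S A := by
  rw [c.spec]
  intro i
  rw [mat_linOfMat]
  exact c.sol_cond x i

/-- Solutions are members of the family. -/
noncomputable def Cut.solEquiv (A : Type u) [CommRing A] [Algebra R A] : Sol c.eqs A ≃ ↥(S A) where
  toFun x := ⟨linOfMat (R := R) (mat1 x.1) (mat2 x.1) (c.sol12 x) (c.sol21 x), c.linOfMat_mem x⟩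
  invFun g := ⟨coordsOf g.1, c.coordsOf_sol g⟩
  left_inv x := Subtype.ext (coordsOf_linOfMat x.1 (c.sol12 x) (c.sol21 x))
  right_inv g := Subtype.ext (eq_of_mat' (linOfMat_coordsOf g.1 (c.sol12 ⟨coordsOf g.1, c.coordsOf_sol g⟩) (c.sol21 ⟨coordsOf g.1, c.coordsOf_sol g⟩)))

theorem Cut.mat_solEquiv {A : Type u} [CommRing A] [Algebra R A] (x : Sol c.eqs A) :
    mat ((c.solEquiv A x : ↥(S A)) : (A ⊗[R] (Fin n → R)) ≃ₗ[A] (A ⊗[R] (Fin n → R))).toLinearMap = mat1 x.1 := by
  simp only [Cut.solEquiv, Equiv.coe_fn_mk]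
  exact mat_linOfMat _ _ _ _

/-- Points of the presented algebra. -/
noncomputable def Cut.ev (A : Type u) [CommRing A] [Algebra R A] : (Pres c.eqs →ₐ[R] A) ≃ ↥(S A) :=
  (presEquiv c.eqs A).trans (c.solEquiv A)

theorem eq_of_mat {A : Type u} [CommRing A] [Algebra R A] {g g' : ↥(S A)}
    (h : mat g.1.toLinearMap = mat g'.1.toLinearMap) : g = g' :=
  Subtype.ext (LinearEquiv.toLinearMap_injective ((LinearMap.toMatrix _ _).injective h))

theorem Cut.mat_ev_comp {A B : Type u} [CommRing A] [Algebra R A] [CommRing B] [Algebra R B] (φ : A →ₐ[R] B)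
    (ψ : Pres c.eqs →ₐ[R] A) :
    mat (c.ev B (φ.comp ψ)).1.toLinearMap = (mat (c.ev A ψ).1.toLinearMap).map φ := by
  rw [Cut.ev, Equiv.trans_apply, c.mat_solEquiv, presEquiv_comp, Cut.ev, Equiv.trans_apply, c.mat_solEquiv]
  rfl

variable {G : Over (Spec (CommRingCat.of R))} [GrpObj G]

theorem Cut.bijPts (D : QuadGrp.LinRep R (Fin n → R) S G) :
    ∃ u : QuadGrp.specOver R (Pres c.eqs) ⟶ G, BijPts (Pres c.eqs) u := by
  refine ⟨_, bijPts_of_equiv (fun A _ _ => ↥(S A)) (fun A _ _ => (D.pts A).toEquiv) (fun A _ _ => c.ev A)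
    fun A B _ _ _ _ φ y ψ h => eq_of_mat ?_⟩
  rw [c.mat_ev_comp, ← h]
  ext k j
  show (LinearMap.toMatrix (bas R n B) (bas R n B) (D.pts B (QuadGrp.specOverMap R φ ≫ y)).1.toLinearMap) k j =
    φ ((LinearMap.toMatrix (bas R n A) (bas R n A) (D.pts A y).1.toLinearMap) k j)
  rw [LinearMap.toMatrix_apply, LinearMap.toMatrix_apply, LinearEquiv.coe_coe, LinearEquiv.coe_coe,
    Module.Basis.baseChange_apply, Module.Basis.baseChange_apply, D.natural A B φ y, bas_repr_rTensor]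

/-- The family lifts along square zero surjections of local rings. -/
def LiftS (S : ∀ (A : Type u) [CommRing A] [Algebra R A],
    Subgroup ((A ⊗[R] (Fin n → R)) ≃ₗ[A] (A ⊗[R] (Fin n → R)))) : Prop :=
  ∀ (A B : Type u) [CommRing A] [Algebra R A] [CommRing B] [Algebra R B] [IsLocalRing A] [IsLocalRing B]
    (π : A →ₐ[R] B), Function.Surjective π → (∀ a b, π a = 0 → π b = 0 → a * b = 0) →
    ∀ g' ∈ S B, ∃ g ∈ S A, (mat g.toLinearMap).map π = mat g'.toLinearMap

include c in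
theorem Cut.smooth [Finite κ] (D : QuadGrp.LinRep R (Fin n → R) S G) (h : LiftS S) : Smooth G.hom := by
  obtain ⟨u, hu⟩ := c.bijPts D
  rw [hu.smooth_iff]
  haveI := pres_finitePresentation c.eqs
  refine ⟨formallySmooth_of_localLift fun A B _ _ _ _ _ _ π hπ h0 f => ?_, inferInstance⟩
  obtain ⟨g, hg, hgm⟩ := h A B π hπ h0 (c.ev B f).1 (c.ev B f).2
  refine ⟨(c.ev A).symm ⟨g, hg⟩, (c.ev B).injective (eq_of_mat ?_)⟩
  rw [c.mat_ev_comp, Equiv.apply_symm_apply, hgm]

include c in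
theorem Cut.lift_of_smooth [Finite κ] (D : QuadGrp.LinRep R (Fin n → R) S G) [Smooth G.hom] {A B : Type u}
    [CommRing A] [Algebra R A] [CommRing B] [Algebra R B] (π : A →ₐ[R] B) (hπ : Function.Surjective π)
    (h0 : ∀ a b, π a = 0 → π b = 0 → a * b = 0) {g' : (B ⊗[R] (Fin n → R)) ≃ₗ[B] (B ⊗[R] (Fin n → R))}
    (hg' : g' ∈ S B) : ∃ g ∈ S A, (mat g.toLinearMap).map π = mat g'.toLinearMap := by
  obtain ⟨u, hu⟩ := c.bijPts D
  haveI : Algebra.Smooth R (Pres c.eqs) := hu.smooth_iff.mp inferInstance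
  obtain ⟨f, hf⟩ := exists_lift_of_formallySmooth π hπ h0 ((c.ev B).symm ⟨g', hg'⟩)
  refine ⟨_, (c.ev A f).2, ?_⟩
  rw [← c.mat_ev_comp, hf, Equiv.apply_symm_apply]

end Groth.Agent.QRepLib
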