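import Groth.Agent.QRepLib.Lin
import Groth.Agent.QFormLib.Adjust
import Mathlib.RingTheory.AdjoinRoot

/-! The orthogonal and special orthogonal group schemes: presentations and smoothness. -/

namespace Groth.Agent.QRepLib

open CategoryTheory AlgebraicGeometry
open scoped TensorProduct
open Groth.Agent.QFormLib

universe u

variable {R : Type u} [CommRing R] {n : ℕ} (Q : QuadraticForm R (Fin n → R))

/-- The form over `A`. -/
noncomputable abbrev QA (A : Type u) [CommRing A] [Algebra R A] : QuadraticForm A (A ⊗[R] (Fin n → R)) :=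
  QuadGrp.baseChangeForm A Q

theorem compat_bas {A B : Type u} [CommRing A] [Algebra R A] [CommRing B] [Algebra R B] (φ : A →ₐ[R] B) :
    Compat φ.toRingHom (bas R n A) (QA Q A) (fun i => bas R n B i) (QA Q B) where
  diag i := by
    simp only [Module.Basis.baseChange_apply, baseChangeForm_tmul, one_mul]
    exact (φ.commutes _).symm
  polar i j _ := by
    simp only [QuadraticMap.polar, Module.Basis.baseChange_apply, ← TensorProduct.tmul_add, baseChangeForm_tmul,
      one_mul, map_sub]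
    congr 1
    · congr 1 <;> exact (φ.commutes _).symm
    · exact (φ.commutes _).symm

theorem mem_orth_iff {A : Type u} [CommRing A] [Algebra R A]
    (g : (A ⊗[R] (Fin n → R)) ≃ₗ[A] (A ⊗[R] (Fin n → R))) : g ∈ QuadGrp.orth Q A ↔ g ∈ QuadGrp.O (QA Q A) := by
  refine forall_congr' fun v => ?_
  rw [QA, QuadGrp.baseChangeForm, LinearMap.compQuadraticMap_apply, LinearMap.compQuadraticMap_apply]
  exact ((TensorProduct.AlgebraTensorModule.rid R A A).injective.eq_iff).symm

/-- The columns of a matrix as vectors. -/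
noncomputable def col {A : Type u} [CommRing A] [Algebra R A] (M : Matrix (Fin n) (Fin n) A) (i : Fin n) :
    A ⊗[R] (Fin n → R) := ∑ k, M k i • bas R n A k

theorem svec_col {A B : Type u} [CommRing A] [Algebra R A] [CommRing B] [Algebra R B] (φ : A →ₐ[R] B)
    (M : Matrix (Fin n) (Fin n) A) (i : Fin n) :
    svec φ.toRingHom (bas R n A) (fun i => bas R n B i) (col M i) = col (M.map φ) i := by
  simp only [col, map_sum, LinearMap.map_smulₛₗ, svec_basis]
  rfl

theorem col_mat {A : Type u} [CommRing A] [Algebra R A] (g : A ⊗[R] (Fin n → R) →ₗ[A] A ⊗[R] (Fin n → R)) (i : Fin n) :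
    col (mat g) i = g (bas R n A i) := by
  simp only [col, mat, LinearMap.toMatrix_apply]
  exact (bas R n A).sum_repr _

/-- The conditions of the orthogonal group. -/
noncomputable def condO (A : Type u) [CommRing A] [Algebra R A] (M : Matrix (Fin n) (Fin n) A) (p : Fin n × Fin n) : A :=
  if p.1 = p.2 then QA Q A (col M p.1) - QA Q A (bas R n A p.1)
  else QuadraticMap.polar (QA Q A) (col M p.1) (col M p.2) -
    QuadraticMap.polar (QA Q A) (bas R n A p.1) (bas R n A p.2)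

theorem condO_nat (A B : Type u) [CommRing A] [Algebra R A] [CommRing B] [Algebra R B] (φ : A →ₐ[R] B)
    (M : Matrix (Fin n) (Fin n) A) (p : Fin n × Fin n) : φ (condO Q A M p) = condO Q B (M.map φ) p := by
  simp only [condO, apply_ite φ, ← svec_col, (compat_bas Q φ).map_form, (compat_bas Q φ).polar_svec, map_sub]
  split_ifs with h
  · rw [(compat_bas Q φ).diag]; rfl
  · rw [(compat_bas Q φ).polar _ _ h]; rfl

theorem condO_spec (A : Type u) [CommRing A] [Algebra R A] (g : (A ⊗[R] (Fin n → R)) ≃ₗ[A] (A ⊗[R] (Fin n → R))) :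
    g ∈ QuadGrp.O (QA Q A) ↔ ∀ p, condO Q A (mat g.toLinearMap) p = 0 := by
  constructor
  · intro hg p
    simp only [condO, col_mat, LinearEquiv.coe_coe]
    split_ifs with h
    · rw [hg, sub_self]
    · simp only [QuadraticMap.polar, ← map_add, hg _, sub_self]
  · intro h
    refine mem_O_of_basis (QA Q A) (bas R n A) g (fun i => ?_) fun i j hij => ?_
    · have := h (i, i)
      simp only [condO, col_mat, LinearEquiv.coe_coe, ↓reduceIte, sub_eq_zero] at this
      exact this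
    · have := h (i, j)
      simp only [condO, col_mat, LinearEquiv.coe_coe, if_neg hij, sub_eq_zero] at this
      exact this

/-- The orthogonal group is cut out. -/
noncomputable def cutO : Cut (fun A _ _ => QuadGrp.orth Q A) (Fin n × Fin n) where
  cond := condO Q
  nat := condO_nat Q
  spec A _ _ g := (mem_orth_iff Q g).trans (condO_spec Q A g)

theorem mem_sorth'_iff {A : Type u} [CommRing A] [Algebra R A]
    (g : (A ⊗[R] (Fin n → R)) ≃ₗ[A] (A ⊗[R] (Fin n → R))) :
    g ∈ QuadGrp.sorth' Q A ↔ g ∈ QuadGrp.SO' (QA Q A) :=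
  and_congr (mem_orth_iff Q g) Iff.rfl

theorem mem_SO'_iff {A : Type u} [CommRing A] [Algebra R A]
    (g : (A ⊗[R] (Fin n → R)) ≃ₗ[A] (A ⊗[R] (Fin n → R))) :
    g ∈ QuadGrp.SO' (QA Q A) ↔ g ∈ QuadGrp.O (QA Q A) ∧ (mat g.toLinearMap).det = 1 := by
  refine and_congr Iff.rfl ?_
  show LinearEquiv.det g = 1 ↔ _
  rw [mat, LinearMap.det_toMatrix, ← LinearEquiv.coe_det, Units.val_eq_one]

/-- The conditions of the determinant one group. -/
noncomputable def condSO' (A : Type u) [CommRing A] [Algebra R A] (M : Matrix (Fin n) (Fin n) A) :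
    (Fin n × Fin n) ⊕ Unit → A :=
  Sum.elim (condO Q A M) fun _ => M.det - 1

/-- The naive special orthogonal group is cut out. -/
noncomputable def cutSO' : Cut (fun A _ _ => QuadGrp.sorth' Q A) ((Fin n × Fin n) ⊕ Unit) where
  cond := condSO' Q
  nat A B _ _ _ _ φ M i := by
    rcases i with p | i
    · exact condO_nat Q A B φ M p
    · show φ (M.det - 1) = (M.map φ).det - 1
      rw [map_sub, map_one, AlgHom.map_det]
      rfl
  spec A _ _ g := by
    rw [mem_sorth'_iff, mem_SO'_iff, condO_spec, Sum.forall]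
    exact and_congr Iff.rfl ⟨fun h _ => sub_eq_zero.mpr h, fun h => sub_eq_zero.mp (h ())⟩

section Even

variable {m : ℕ} (hn : n = 2 * m)

/-- The image of an element under the substitution of columns. -/
noncomputable def prodImg {A : Type u} [CommRing A] [Algebra R A] (M : Matrix (Fin n) (Fin n) A)
    (x : CliffordAlgebra (QA Q A)) : CliffordAlgebra (QA Q A) :=
  ∑ S : Finset (Fin n), κ (bas R n A) (QA Q A) S x •
    ((S.sort (· ≤ ·)).map fun i => CliffordAlgebra.ι (QA Q A) (col M i)).prod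

theorem prodImg_nat {A B : Type u} [CommRing A] [Algebra R A] [CommRing B] [Algebra R B] (φ : A →ₐ[R] B)
    (M : Matrix (Fin n) (Fin n) A) (x : CliffordAlgebra (QA Q A)) :
    cmap (compat_bas Q φ) (prodImg Q M x) = prodImg Q (M.map φ) (cmap (compat_bas Q φ) x) := by
  simp only [prodImg, map_sum, cmap_smul, κ_cmap, map_list_prod, List.map_map]
  refine Finset.sum_congr rfl fun S _ => ?_
  congr 3
  funext i
  rw [Function.comp_apply, cmap_ι, svec_col]

theorem prodImg_eq_map {A : Type u} [CommRing A] [Algebra R A] (g : (A ⊗[R] (Fin n → R)) ≃ₗ[A] (A ⊗[R] (Fin n → R)))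
    (hg : g ∈ QuadGrp.O (QA Q A)) (x : CliffordAlgebra (QA Q A)) :
    prodImg Q (mat g.toLinearMap) x = CliffordAlgebra.map (QuadGrp.isometryOfMem (QA Q A) g hg) x := by
  conv_rhs => rw [eq_sum_κ (bas R n A) (QA Q A) x, map_sum]
  refine Finset.sum_congr rfl fun S _ => ?_
  rw [map_smul, prodE, map_list_prod, List.map_map]
  congr 3
  funext i
  rw [Function.comp_apply, CliffordAlgebra.map_apply_ι, col_mat, QuadGrp.isometryOfMem_apply, LinearEquiv.coe_coe]

/-- The Dickson condition on a matrix. -/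
noncomputable def condD (A : Type u) [CommRing A] [Algebra R A] (M : Matrix (Fin n) (Fin n) A) (T : Finset (Fin n)) : A :=
  κ (bas R n A) (QA Q A) T (prodImg Q M (zEl (bas R n A) (QA Q A) hn) - zEl (bas R n A) (QA Q A) hn)

theorem condD_nat (A B : Type u) [CommRing A] [Algebra R A] [CommRing B] [Algebra R B] (φ : A →ₐ[R] B)
    (M : Matrix (Fin n) (Fin n) A) (T : Finset (Fin n)) : φ (condD Q hn A M T) = condD Q hn B (M.map φ) T := by
  refine (κ_cmap (compat_bas Q φ) T _).symm.trans (congrArg _ ?_)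
  rw [map_sub, prodImg_nat, cmap_zEl_natural (compat_bas Q φ) hn]

theorem isRegular_QA (hQ : QuadGrp.IsRegular Q) (A : Type u) [CommRing A] [Algebra R A] : QuadGrp.IsRegular (QA Q A) :=
  isRegular_of_isUnit_det (bas R n A) _ (by
    rw [polMat_natural (compat_baseChangeForm A (Pi.basisFun R (Fin n)) Q), ← RingHom.mapMatrix_apply,
      ← RingHom.map_det]
    exact (isUnit_det_polMat (Pi.basisFun R (Fin n)) Q hQ).map _)

theorem finrank_bas (A : Type u) [CommRing A] [Algebra R A] [Nontrivial A] :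
    Module.finrank A (A ⊗[R] (Fin n → R)) = n := by
  rw [Module.finrank_eq_card_basis (bas R n A), Fintype.card_fin]

include hn in
theorem dickson_iff (hm : 0 < m) (hQ : QuadGrp.IsRegular Q) {A : Type u} [CommRing A] [Algebra R A]
    (g : (A ⊗[R] (Fin n → R)) ≃ₗ[A] (A ⊗[R] (Fin n → R))) (hg : g ∈ QuadGrp.O (QA Q A)) :
    QuadGrp.IsDicksonTrivial (QA Q A) g hg ↔ ∀ T, condD Q hn A (mat g.toLinearMap) T = 0 := by
  have hA := isRegular_QA Q hQ A
  simp only [condD, prodImg_eq_map Q g hg]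
  constructor
  · intro h T
    rw [show CliffordAlgebra.map (QuadGrp.isometryOfMem (QA Q A) g hg) (zEl (bas R n A) (QA Q A) hn) =
      zEl (bas R n A) (QA Q A) hn from h ⟨_, zEl_mem _ _ hn⟩
        (Subalgebra.mem_center_iff.mpr fun y => Subtype.ext (zEl_comm_even _ _ hn y.2).symm), sub_self, map_zero]
  · intro h
    obtain ⟨e, he, hδ, hz⟩ := exists_dickson (bas R n A) (QA Q A) hn hA hm g hg
    refine (isDicksonTrivial_iff (bas R n A) (QA Q A) hn hA hm g hg hδ hz).mpr ?_
    have h0 : CliffordAlgebra.map (QuadGrp.isometryOfMem (QA Q A) g hg) (zEl (bas R n A) (QA Q A) hn) -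
        zEl (bas R n A) (QA Q A) hn = 0 := eq_of_κ (bas R n A) _ fun T => by rw [h T, map_zero]
    rw [hz, hδ] at h0
    obtain ⟨h1, h2⟩ := zEl_indep (bas R n A) (QA Q A) hn hA hm (a := e * pEl (bas R n A) (QA Q A) hn) (r := -(2 * e))
      (by rw [← h0, sub_smul, neg_smul, one_smul]; abel)
    obtain ⟨q, -, hD⟩ := exists_zEl_sq (bas R n A) (QA Q A) hn
    obtain ⟨d, hd⟩ := ((isUnit_neg_one (α := A)).pow m).mul (isUnit_det_polMat (bas R n A) (QA Q A) hA)
    rw [hD] at hd
    refine (Units.mul_right_eq_zero d).mp ?_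
    rw [hd]
    linear_combination (pEl (bas R n A) (QA Q A) hn) * h1 - 2 * q * h2

include hn in
theorem mem_sorth_even_iff (hm : 0 < m) (hQ : QuadGrp.IsRegular Q) {A : Type u} [CommRing A] [Algebra R A]
    (g : (A ⊗[R] (Fin n → R)) ≃ₗ[A] (A ⊗[R] (Fin n → R))) :
    g ∈ QuadGrp.sorth Q A ↔ (∀ p, condO Q A (mat g.toLinearMap) p = 0) ∧ ∀ T, condD Q hn A (mat g.toLinearMap) T = 0 := by
  cases subsingleton_or_nontrivial A with
  | inl hs =>
    haveI : Subsingleton (A ⊗[R] (Fin n → R)) := Module.subsingleton A _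
    rw [show g = 1 from LinearEquiv.ext fun x => Subsingleton.elim _ _]
    exact ⟨fun _ => ⟨fun _ => Subsingleton.elim _ _, fun _ => Subsingleton.elim _ _⟩, fun _ => Subgroup.one_mem _⟩
  | inr hs =>
    rw [QuadGrp.sorth, QuadGrp.SO, finrank_bas, if_pos (hn ▸ even_two_mul m)]
    constructor
    · rintro ⟨hg, hD⟩
      exact ⟨(condO_spec Q A g).mp hg, (dickson_iff Q hn hm hQ g hg).mp hD⟩
    · rintro ⟨h1, h2⟩
      exact ⟨(condO_spec Q A g).mpr h1, (dickson_iff Q hn hm hQ g _).mpr h2⟩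

/-- The special orthogonal group of even rank is cut out. -/
noncomputable def cutSOeven (hm : 0 < m) (hQ : QuadGrp.IsRegular Q) :
    Cut (fun A _ _ => QuadGrp.sorth Q A) ((Fin n × Fin n) ⊕ Finset (Fin n)) where
  cond A _ _ M := Sum.elim (condO Q A M) (condD Q hn A M)
  nat A B _ _ _ _ φ M i := by
    rcases i with p | T
    · exact condO_nat Q A B φ M p
    · exact condD_nat Q hn A B φ M T
  spec A _ _ g := by rw [mem_sorth_even_iff Q hn hm hQ, Sum.forall]; rfl

end Even

theorem sorth_odd_eq (hn : Odd n) (A : Type u) [CommRing A] [Algebra R A] : QuadGrp.sorth Q A = QuadGrp.sorth' Q A := by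
  ext g
  cases subsingleton_or_nontrivial A with
  | inl hs =>
    haveI : Subsingleton (A ⊗[R] (Fin n → R)) := Module.subsingleton A _
    rw [show g = 1 from LinearEquiv.ext fun x => Subsingleton.elim _ _]
    exact ⟨fun _ => Subgroup.one_mem _, fun _ => Subgroup.one_mem _⟩
  | inr hs =>
    rw [mem_sorth'_iff, QuadGrp.sorth, QuadGrp.SO, finrank_bas, if_neg (Nat.not_even_iff_odd.mpr hn)]

/-- The special orthogonal group of odd rank is cut out. -/
noncomputable def cutSOodd (hn : Odd n) : Cut (fun A _ _ => QuadGrp.sorth Q A) ((Fin n × Fin n) ⊕ Unit) where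
  cond := condSO' Q
  nat := (cutSO' Q).nat
  spec A _ _ g := by rw [sorth_odd_eq Q hn A]; exact (cutSO' Q).spec A g

theorem isUnit_halfDisc_QA (hQ : IsUnit (QuadGrp.halfDisc (Pi.basisFun R (Fin n)) (LinearEquiv.refl R R) Q))
    (A : Type u) [CommRing A] [Algebra R A] : IsUnit (QuadGrp.halfDisc (bas R n A) (LinearEquiv.refl A A) (QA Q A)) := by
  rw [halfDisc_compat (compat_baseChangeForm A (Pi.basisFun R (Fin n)) Q)]
  exact hQ.map _

theorem mat_map_of_over {A B : Type u} [CommRing A] [Algebra R A] [CommRing B] [Algebra R B] {π : A →ₐ[R] B}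
    {g : A ⊗[R] (Fin n → R) →ₗ[A] A ⊗[R] (Fin n → R)} {g' : B ⊗[R] (Fin n → R) →ₗ[B] B ⊗[R] (Fin n → R)}
    (h : Over' π.toRingHom (bas R n A) (bas R n B) g g') : (mat g).map π = mat g' :=
  toMatrix_map π.toRingHom (bas R n A) (bas R n B) h

theorem liftO
    (hP : IsUnit (polMat (Pi.basisFun R (Fin n)) Q).det) : LiftS (fun A _ _ => QuadGrp.orth Q A) := by
  intro A B _ _ _ _ _ _ π hπ h0 g' hg'
  have hPA : IsUnit (polMat (bas R n A) (QA Q A)).det := by
    rw [polMat_natural (compat_baseChangeForm A (Pi.basisFun R (Fin n)) Q), ← RingHom.mapMatrix_apply, ← RingHom.map_det]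
    exact hP.map _
  obtain ⟨g, hg, hov⟩ := exists_lift_O π.toRingHom hπ h0 (bas R n A) (bas R n B) (QA Q A) (QA Q B) (compat_bas Q π)
    hPA g' ((mem_orth_iff Q g').mp hg')
  exact ⟨g, (mem_orth_iff Q g).mpr hg, mat_map_of_over hov⟩

theorem liftSO_odd {m : ℕ} (hn : n = 2 * m + 1)
    (hQ : IsUnit (QuadGrp.halfDisc (Pi.basisFun R (Fin n)) (LinearEquiv.refl R R) Q)) :
    LiftS (fun A _ _ => QuadGrp.sorth' Q A) := by
  intro A B _ _ _ _ _ _ π hπ h0 g' hg'
  obtain ⟨g, hg, hov⟩ := exists_lift_SO_odd π.toRingHom hπ h0 (bas R n A) (bas R n B) (QA Q A) (QA Q B)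
    (compat_bas Q π) hn (isUnit_halfDisc_QA Q hQ A) g' ((mem_sorth'_iff Q g').mp hg')
  exact ⟨g, (mem_sorth'_iff Q g).mpr hg, mat_map_of_over hov⟩

theorem liftSO'_even {m : ℕ} (hn : n = 2 * m) (hm : 0 < m) (hQ : QuadGrp.IsRegular Q) (h2 : IsUnit (2 : R)) :
    LiftS (fun A _ _ => QuadGrp.sorth' Q A) := by
  intro A B _ _ _ _ _ _ π hπ h0 g' hg'
  obtain ⟨hgO', hdet'⟩ := (mem_SO'_iff Q g').mp ((mem_sorth'_iff Q g').mp hg')
  have hA := isRegular_QA Q hQ A
  obtain ⟨g, hg, hov⟩ := exists_lift_O π.toRingHom hπ h0 (bas R n A) (bas R n B) (QA Q A) (QA Q B) (compat_bas Q π)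
    (isUnit_det_polMat (bas R n A) (QA Q A) hA) g' hgO'
  refine ⟨g, (mem_sorth'_iff Q g).mpr ((mem_SO'_iff Q g).mpr ⟨hg, ?_⟩), mat_map_of_over hov⟩
  obtain ⟨e, he, hδ, -⟩ := exists_dickson (bas R n A) (QA Q A) hn hA hm g hg
  rw [← LinearMap.det_toMatrix (bas R n A)] at hδ
  have h1 : π ((mat g.toLinearMap).det) = 1 := by
    rw [AlgHom.map_det, AlgHom.mapMatrix_apply, mat_map_of_over hov, hdet']
  change (mat g.toLinearMap).det = 1 - 2 * e at hδ
  have hsq : ((mat g.toLinearMap).det - 1) * ((mat g.toLinearMap).det + 1) = 0 := by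
    rw [hδ]; linear_combination 4 * he.eq
  have hu : IsUnit ((mat g.toLinearMap).det + 1) := isUnit_of_map π.toRingHom hπ h0 (by
    show IsUnit (π ((mat g.toLinearMap).det + 1))
    rw [map_add, map_one, h1, one_add_one_eq_two, ← map_ofNat (algebraMap R B) 2]
    exact h2.map _)
  exact sub_eq_zero.mp (hu.mul_left_eq_zero.mp hsq)

theorem liftSO_even {m : ℕ} (hn : n = 2 * m) (hm : 0 < m) (hQ : QuadGrp.IsRegular Q) :
    LiftS (fun A _ _ => QuadGrp.sorth Q A) := by
  intro A B _ _ _ _ _ _ π hπ h0 g' hg'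
  have e : ∀ (C : Type u) [CommRing C] [Algebra R C] [Nontrivial C],
      QuadGrp.sorth Q C = QuadGrp.SOeven (QA Q C) := fun C _ _ _ => by
    rw [QuadGrp.sorth, QuadGrp.SO, finrank_bas, if_pos (hn ▸ even_two_mul m)]
  obtain ⟨g, hg, hov⟩ := exists_lift_SOeven π.toRingHom hπ h0 (bas R n A) (bas R n B) (QA Q A) (QA Q B)
    (compat_bas Q π) hn hm (isRegular_QA Q hQ A) g' (e B ▸ hg')
  refine ⟨g, ?_, mat_map_of_over hov⟩
  show g ∈ QuadGrp.sorth Q A
  rw [e A]
  exact hg

theorem exists_test_ring {S : Type u} [CommRing S] (h2 : ¬IsUnit (2 : S)) :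
    ∃ (A : Type u) (_ : CommRing A) (_ : Algebra S A) (I : Ideal A) (a : A), (∀ x ∈ I, ∀ y ∈ I, x * y = 0) ∧
      a * a - 1 ∈ I ∧ ∀ d, d - a ∈ I → d * d ≠ 1 := by
  obtain ⟨p, hp, hp2⟩ := exists_max_ideal_of_mem_nonunits h2
  letI : Field (S ⧸ p) := Ideal.Quotient.field p
  have hK2 : (2 : S ⧸ p) = 0 := by
    rw [← map_ofNat (Ideal.Quotient.mk p) 2]; exact Ideal.Quotient.eq_zero_iff_mem.mpr hp2
  let f : Polynomial (S ⧸ p) := Polynomial.X ^ 3
  let ε : AdjoinRoot f := AdjoinRoot.root f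
  have hε : ε ^ 3 = 0 := by
    show AdjoinRoot.mk f Polynomial.X ^ 3 = 0
    rw [← map_pow, show (Polynomial.X : Polynomial (S ⧸ p)) ^ 3 = f from rfl, AdjoinRoot.mk_self]
  have hε2 : ε ^ 2 ≠ 0 := by
    show AdjoinRoot.mk f Polynomial.X ^ 2 ≠ 0
    rw [← map_pow, Ne, AdjoinRoot.mk_eq_zero]
    intro hd
    have := Polynomial.degree_le_of_dvd hd (pow_ne_zero _ Polynomial.X_ne_zero)
    rw [show f = Polynomial.X ^ 3 from rfl, Polynomial.degree_X_pow, Polynomial.degree_X_pow] at this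
    exact absurd this (by decide)
  have hA2 : (2 : AdjoinRoot f) = 0 := by rw [← map_ofNat (AdjoinRoot.of f) 2, hK2, map_zero]
  refine ⟨AdjoinRoot f, inferInstance, ((AdjoinRoot.of f).comp (Ideal.Quotient.mk p)).toAlgebra,
    Ideal.span {ε ^ 2}, 1 + ε, fun x hx y hy => ?_, ?_, fun d hd hd2 => hε2 ?_⟩
  · obtain ⟨a, rfl⟩ := Ideal.mem_span_singleton'.mp hx
    obtain ⟨b, rfl⟩ := Ideal.mem_span_singleton'.mp hy
    linear_combination a * b * ε * hε
  · exact Ideal.mem_span_singleton'.mpr ⟨1, by linear_combination -ε * hA2⟩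
  · obtain ⟨c, hc⟩ := Ideal.mem_span_singleton'.mp hd
    have hd' : d = 1 + ε + c * ε ^ 2 := by linear_combination -hc
    rw [hd'] at hd2
    linear_combination hd2 - (c * ε ^ 2 + ε + c * ε ^ 3) * hA2 - c ^ 2 * ε * hε

theorem det_sq_of_mem_orth {m : ℕ} (hn : n = 2 * m + 1)
    (hQ : IsUnit (QuadGrp.halfDisc (Pi.basisFun R (Fin n)) (LinearEquiv.refl R R) Q)) {A : Type u} [CommRing A]
    [Algebra R A] {g : (A ⊗[R] (Fin n → R)) ≃ₗ[A] (A ⊗[R] (Fin n → R))} (hg : g ∈ QuadGrp.orth Q A) :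
    (mat g.toLinearMap).det * (mat g.toLinearMap).det = 1 := by
  have h1 := halfDisc_comp ⟨m, hn⟩ (bas R n A) (QA Q A) g.toLinearMap
  rw [show (QA Q A).comp g.toLinearMap = QA Q A from QuadraticMap.ext fun v => ((mem_orth_iff Q g).mp hg) v] at h1
  refine ((isUnit_halfDisc_QA Q hQ A).mul_right_cancel ?_)
  rw [one_mul, mat, LinearMap.det_toMatrix, ← sq]
  exact h1.symm

theorem smul_mem_orth {B : Type u} [CommRing B] [Algebra R B] (lam : Bˣ) (h : (lam : B) * lam = 1) :
    LinearEquiv.smulOfUnit (M := B ⊗[R] (Fin n → R)) lam ∈ QuadGrp.orth Q B :=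
  (mem_orth_iff Q _).mpr fun v => by
    show QA Q B ((lam : B) • v) = _
    rw [QuadraticMap.map_smul, h, one_smul]

theorem det_mat_smul {B : Type u} [CommRing B] [Algebra R B] (lam : Bˣ) :
    (mat (LinearEquiv.smulOfUnit (M := B ⊗[R] (Fin n → R)) lam).toLinearMap).det = (lam : B) ^ n := by
  rw [mat, show (LinearEquiv.smulOfUnit (M := B ⊗[R] (Fin n → R)) lam).toLinearMap =
    (lam : B) • LinearMap.id from rfl, map_smul, LinearMap.toMatrix_id, Matrix.det_smul, Matrix.det_one, mul_one,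
    Fintype.card_fin]

theorem isUnit_two_of_smooth {m : ℕ} (hn : n = 2 * m + 1)
    (hQ : IsUnit (QuadGrp.halfDisc (Pi.basisFun R (Fin n)) (LinearEquiv.refl R R) Q))
    (G : Over (Spec (CommRingCat.of R))) [GrpObj G] (D : QuadGrp.OrthRep Q G) [Smooth G.hom] : IsUnit (2 : R) := by
  by_contra h2
  obtain ⟨A, _, _, I, a, hI, ha, hbad⟩ := exists_test_ring h2
  have ha' : Ideal.Quotient.mk I a * Ideal.Quotient.mk I a = 1 := by
    rw [← map_mul, ← map_one (Ideal.Quotient.mk I), Ideal.Quotient.eq]; exact ha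
  let lam : (A ⧸ I)ˣ := ⟨Ideal.Quotient.mk I a, Ideal.Quotient.mk I a, ha', ha'⟩
  obtain ⟨g, hg, hgm⟩ := (cutO Q).lift_of_smooth D (Ideal.Quotient.mkₐ R I) Ideal.Quotient.mk_surjective
    (fun x y hx hy => hI x (Ideal.Quotient.eq_zero_iff_mem.mp hx) y (Ideal.Quotient.eq_zero_iff_mem.mp hy))
    (smul_mem_orth Q lam ha')
  refine hbad _ ?_ (det_sq_of_mem_orth Q hn hQ hg)
  rw [← Ideal.Quotient.eq]
  have hdm : Ideal.Quotient.mkₐ R I (mat g.toLinearMap).det = (lam : A ⧸ I) ^ n := by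
    rw [AlgHom.map_det, AlgHom.mapMatrix_apply, hgm, det_mat_smul]
  have hpow : ∀ k, ((lam : A ⧸ I)) ^ (2 * k + 1) = lam := fun k => by
    rw [pow_succ, pow_mul, pow_two, show (lam : A ⧸ I) * lam = 1 from ha', one_pow, one_mul]
  have he : (lam : A ⧸ I) ^ n = lam := (congrArg _ hn).trans (hpow m)
  exact hdm.trans he

theorem isUnit_det_polMat_of_nondeg (hQ : QuadGrp.IsNondeg (Pi.basisFun R (Fin n)) (LinearEquiv.refl R R) Q)
    (h : Even n ∨ IsUnit (2 : R)) : IsUnit (polMat (Pi.basisFun R (Fin n)) Q).det := by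
  rcases Nat.even_or_odd n with he | ho
  · exact isUnit_det_polMat _ Q (hQ.1 he)
  · have h2 : IsUnit (2 : R) := h.resolve_left fun he => Nat.not_even_iff_odd.mpr ho he
    rw [det_polMat, ← two_mul_halfDiscUniv ho, map_mul, spec_halfDisc, map_ofNat]
    exact h2.mul (hQ.2 ho)

theorem smooth_orth_iff (hQ : QuadGrp.IsNondeg (Pi.basisFun R (Fin n)) (LinearEquiv.refl R R) Q)
    (G : Over (Spec (CommRingCat.of R))) [GrpObj G] (D : QuadGrp.OrthRep Q G) :
    Smooth G.hom ↔ (Even n ∨ IsUnit (2 : R)) := by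
  constructor
  · intro h
    rcases Nat.even_or_odd n with he | ⟨m, hm⟩
    · exact Or.inl he
    · exact Or.inr (isUnit_two_of_smooth Q hm (hQ.2 ⟨m, hm⟩) G D)
  · exact fun h => (cutO Q).smooth D (liftO Q (isUnit_det_polMat_of_nondeg Q hQ h))

theorem smooth_sorth' (hn1 : 1 ≤ n) (hQ : QuadGrp.IsNondeg (Pi.basisFun R (Fin n)) (LinearEquiv.refl R R) Q)
    (G : Over (Spec (CommRingCat.of R))) [GrpObj G] (D : QuadGrp.SOrth'Rep Q G) (h : Odd n ∨ IsUnit (2 : R)) :
    Smooth G.hom := by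
  rcases Nat.even_or_odd n with ⟨m, hm⟩ | ⟨m, hm⟩
  · have h2 : IsUnit (2 : R) := h.resolve_left fun ho => Nat.not_even_iff_odd.mpr ho ⟨m, hm⟩
    exact (cutSO' Q).smooth D (liftSO'_even Q (m := m) (by omega) (by omega) (hQ.1 ⟨m, hm⟩) h2)
  · exact (cutSO' Q).smooth D (liftSO_odd Q hm (hQ.2 ⟨m, hm⟩))

end Groth.Agent.QRepLib
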